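import Mathlib
import Groth.Agent.H78.MinPrimeFlat

/-!
# Going down for minimal primes over an extended ideal; primes of coheight one in a local ring
-/

set_option autoImplicit false
set_option linter.style.haveILetI false
universe u

namespace Groth.Agent.H78.BranchDim1

open IsLocalRing

section goingDown

variable {R S : Type*} [CommRing R] [CommRing S] [Algebra R S] [Algebra.HasGoingDown R S]

/-- a minimal prime over `IS` contracts to a minimal prime over `I` -/
theorem under_mem_minimalPrimes_of_map (I : Ideal R) {Q : Ideal S}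
    (hQ : Q ∈ (I.map (algebraMap R S)).minimalPrimes) : Q.under R ∈ I.minimalPrimes := by
  haveI : Q.IsPrime := hQ.1.1
  refine ⟨⟨inferInstance, Ideal.map_le_iff_le_comap.mp hQ.1.2⟩, ?_⟩
  rintro p ⟨hp, hIp⟩ hle
  haveI := hp
  obtain ⟨P, hPQ, hP, hPp⟩ := Ideal.exists_ideal_le_liesOver_of_le (p := p) (q := Q.under R) Q hle
  have hIP : I.map (algebraMap R S) ≤ P := by
    rw [Ideal.map_le_iff_le_comap]
    exact hIp.trans hPp.over.le
  have h1 : Q ≤ P := hQ.2 ⟨hP, hIP⟩ hPQ
  have h2 : P = Q := le_antisymm hPQ h1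
  rw [← h2, ← hPp.over]

/-- a minimal prime over `pS`, `p` prime, lies over `p` -/
theorem under_eq_of_mem_minimalPrimes_map (p : Ideal R) [p.IsPrime] {Q : Ideal S}
    (hQ : Q ∈ (p.map (algebraMap R S)).minimalPrimes) : Q.under R = p := by
  have h := under_mem_minimalPrimes_of_map p hQ
  rw [Ideal.minimalPrimes_eq_subsingleton_self, Set.mem_singleton_iff] at h
  exact h

/-- transitivity -/
theorem mem_minimalPrimes_map_of_mem_minimalPrimes_map (I : Ideal R) {P : Ideal R}
    (hP : P ∈ I.minimalPrimes) {Q : Ideal S} (hQ : Q ∈ (P.map (algebraMap R S)).minimalPrimes) :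
    Q ∈ (I.map (algebraMap R S)).minimalPrimes := by
  haveI : P.IsPrime := hP.1.1
  haveI : Q.IsPrime := hQ.1.1
  have hQP : Q.under R = P := under_eq_of_mem_minimalPrimes_map P hQ
  refine ⟨⟨inferInstance, (Ideal.map_mono hP.1.2).trans hQ.1.2⟩, ?_⟩
  rintro Q' ⟨hQ', hIQ'⟩ hle
  haveI := hQ'
  have h1 : Q'.under R ≤ P := by rw [← hQP]; exact Ideal.comap_mono hle
  have h2 : P ≤ Q'.under R :=
    hP.2 ⟨inferInstance, Ideal.map_le_iff_le_comap.mp hIQ'⟩ h1
  exact hQ.2 ⟨hQ', Ideal.map_le_iff_le_comap.mpr h2⟩ hle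

omit [Algebra.HasGoingDown R S] in
/-- a minimal prime over `IS` is minimal over the extension of its contraction -/
theorem mem_minimalPrimes_map_under (I : Ideal R) {Q : Ideal S}
    (hQ : Q ∈ (I.map (algebraMap R S)).minimalPrimes) :
    Q ∈ ((Q.under R).map (algebraMap R S)).minimalPrimes := by
  haveI : Q.IsPrime := hQ.1.1
  refine ⟨⟨inferInstance, Ideal.map_comap_le⟩, ?_⟩
  rintro Q' ⟨hQ', hQ'le⟩ hle
  refine hQ.2 ⟨hQ', le_trans (Ideal.map_mono ?_) hQ'le⟩ hle
  exact Ideal.map_le_iff_le_comap.mp hQ.1.2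

end goingDown

section dimOne

variable {R : Type u} [CommRing R] [IsLocalRing R]

theorem ne_maximalIdeal_of_dim_one (P : Ideal R) [P.IsPrime]
    (hdim : ringKrullDim (R ⧸ P) = 1) : P ≠ maximalIdeal R := by
  intro h
  have hf : IsField (R ⧸ P) := by
    rw [← Ideal.Quotient.maximal_ideal_iff_isField_quotient, h]
    exact IsLocalRing.maximalIdeal.isMaximal R
  rw [ringKrullDim_eq_zero_of_isField hf] at hdim
  exact zero_ne_one hdim

theorem one_le_ringKrullDim_quotient (P : Ideal R) [P.IsPrime] (hP : P ≠ maximalIdeal R) :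
    1 ≤ ringKrullDim (R ⧸ P) := by
  have : ¬ ringKrullDim (R ⧸ P) ≤ 0 := fun h => by
    haveI : Ring.KrullDimLE 0 (R ⧸ P) := Ring.krullDimLE_iff.mpr h
    have hf : IsField (R ⧸ P) := Ring.KrullDimLE.isField_of_isDomain
    have hm : P.IsMaximal := (Ideal.Quotient.maximal_ideal_iff_isField_quotient P).mpr hf
    exact hP (IsLocalRing.eq_maximalIdeal hm)
  exact Order.succ_le_of_lt (lt_of_not_ge this)

theorem ringKrullDim_quotient_eq_one_of (P : Ideal R) [P.IsPrime] (hP : P ≠ maximalIdeal R)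
    (h : ∀ P' : Ideal R, P'.IsPrime → P ≤ P' → P' = P ∨ P' = maximalIdeal R) :
    ringKrullDim (R ⧸ P) = 1 := by
  refine le_antisymm ?_ (one_le_ringKrullDim_quotient P hP)
  suffices hle : Ring.KrullDimLE 1 (R ⧸ P) from Ring.krullDimLE_iff.mp hle
  refine Ring.krullDimLE_one_iff_of_noZeroDivisors.mpr fun I hI hIp => ?_
  haveI := hIp
  have hker : RingHom.ker (Ideal.Quotient.mk P) = P := Ideal.mk_ker
  have hforth : (I.comap (Ideal.Quotient.mk P)).map (Ideal.Quotient.mk P) = I :=
    Ideal.map_comap_of_surjective _ Ideal.Quotient.mk_surjective I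
  have hle : P ≤ I.comap (Ideal.Quotient.mk P) := by
    intro x hx
    rw [Ideal.mem_comap, Ideal.Quotient.eq_zero_iff_mem.mpr hx]
    exact I.zero_mem
  rcases h _ (Ideal.comap_isPrime _ _) hle with h1 | h1
  · exfalso
    apply hI
    rw [← hforth, h1, Ideal.map_quotient_self]
  · rw [← hforth, h1]
    exact Ideal.IsMaximal.map_of_surjective_of_ker_le Ideal.Quotient.mk_surjective
      (by rw [hker]; exact le_maximalIdeal (Ideal.IsPrime.ne_top inferInstance))

end dimOne

end Groth.Agent.H78.BranchDim1
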