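import Mathlib

/-!
# Idempotents of `B[1/t]` for `B` flat over a henselian local domain `D`

`D` a henselian local domain, `B` a local ring, flat over `D` with local structure map, `0 ≠ t ∈ m_D`
such that `B = D + t^N B` for all `N`.  Then `B[1/t]` has only the trivial idempotents.
-/

set_option autoImplicit false
universe u

namespace Groth.Agent.H78.BranchDim1

open IsLocalRing Polynomial

theorem idem_of_local {B : Type*} [CommRing B] [IsLocalRing B] (β : B) (h : IsIdempotentElem β) :
    β = 0 ∨ β = 1 := by
  have h0 : β * (1 - β) = 0 := by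
    have := h.eq
    linear_combination -this
  rcases IsLocalRing.isUnit_or_isUnit_one_sub_self β with hu | hu
  · right
    have := hu.mul_right_eq_zero.mp h0
    linear_combination -this
  · left
    have h0' : (1 - β) * β = 0 := by rw [mul_comm]; exact h0
    exact hu.mul_right_eq_zero.mp h0'

variable {D B : Type u} [CommRing D] [IsDomain D] [HenselianLocalRing D] [CommRing B]
  [IsLocalRing B] [Algebra D B] [Module.Flat D B] [IsLocalHom (algebraMap D B)]

theorem idem_trivial (t : D) (ht : t ∈ maximalIdeal D) (ht0 : t ≠ 0)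
    (hsurj : ∀ (N : ℕ) (b : B), ∃ d : D, b - algebraMap D B d ∈
      Ideal.span {algebraMap D B t ^ N})
    (Bt : Type u) [CommRing Bt] [Algebra B Bt] [IsLocalization.Away (algebraMap D B t) Bt]
    (e : Bt) (he : IsIdempotentElem e) : e = 0 ∨ e = 1 := by
  set τ : B := algebraMap D B t with hτ
  have hreg : IsSMulRegular B τ :=
    IsSMulRegular.of_flat ((IsRegular.of_ne_zero ht0).left.isSMulRegular)
  have hinj : ∀ x y : B, algebraMap B Bt x = algebraMap B Bt y → x = y := by
    intro x y h
    obtain ⟨⟨_, k, rfl⟩, hk⟩ := (IsLocalization.eq_iff_exists (Submonoid.powers τ) Bt).mp h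
    exact (hreg.pow k) (by simpa [smul_eq_mul] using hk)
  have hunit : IsUnit (algebraMap B Bt τ) := IsLocalization.Away.algebraMap_isUnit τ
  -- write `e = a / τ^n`
  obtain ⟨n, a, hea⟩ := IsLocalization.Away.surj τ e
  have ha2 : a * a = τ ^ n * a := by
    apply hinj
    rw [map_mul, map_mul, map_pow, ← hea]
    have := he.eq
    linear_combination (algebraMap B Bt τ ^ n) ^ 2 * this
  -- approximate `a`
  obtain ⟨a₀, ha₀⟩ := hsurj (2 * n + 1) a
  obtain ⟨b, hb⟩ := Ideal.mem_span_singleton'.mp ha₀
  have hab : a = algebraMap D B a₀ + b * τ ^ (2 * n + 1) := by linear_combination -hb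
  haveI : Module.FaithfullyFlat D B := Module.FaithfullyFlat.of_flat_of_isLocalHom
  have hmem : a₀ * a₀ - t ^ n * a₀ ∈ Ideal.span {t ^ (2 * n + 1)} := by
    rw [← Ideal.comap_map_eq_self_of_faithfullyFlat (B := B) (Ideal.span {t ^ (2 * n + 1)}),
      Ideal.mem_comap, Ideal.map_span, Set.image_singleton, map_pow, ← hτ,
      Ideal.mem_span_singleton']
    refine ⟨τ ^ n * b - 2 * a * b + τ ^ (2 * n + 1) * b * b, ?_⟩
    rw [map_sub, map_mul, map_mul, map_pow, ← hτ]
    have h1 : algebraMap D B a₀ = a - b * τ ^ (2 * n + 1) := by linear_combination -hab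
    rw [h1]
    linear_combination -ha2
  obtain ⟨d, hd⟩ := Ideal.mem_span_singleton'.mp hmem
  -- the root of `X^2 - X - t d`
  set c : D := t * d with hc
  have hcm : c ∈ maximalIdeal D := Ideal.mul_mem_right _ _ ht
  obtain ⟨r, hr, -⟩ := HenselianLocalRing.is_henselian (X ^ 2 - X - C c : D[X])
    (by
      have : (X ^ 2 - X - C c : D[X]) = X ^ 2 - (X + C c) := by ring
      rw [this]
      apply monic_X_pow_sub
      rw [degree_X_add_C]
      norm_num) 0
    (by simpa using hcm)
    (by
      simp only [derivative_sub, derivative_X_pow, derivative_X, derivative_C, eval_sub, eval_mul,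
        eval_pow, eval_X, eval_one, eval_zero]
      simp)
  have hr' : r ^ 2 - r - c = 0 := by simpa [IsRoot.def] using hr
  have hfac : (a₀ - t ^ n * r) * (a₀ - t ^ n * (1 - r)) = 0 := by
    have h2 : t ^ (2 * n + 1) = t ^ n * t ^ n * t := by ring
    rw [h2] at hd
    linear_combination -hd - t ^ n * t ^ n * hr'
  -- conclude
  have key : ∀ ρ : D, a₀ = t ^ n * ρ → e = 0 ∨ e = 1 := by
    intro ρ hρ
    set β : B := algebraMap D B ρ + b * τ ^ (n + 1) with hβ
    have haβ : a = τ ^ n * β := by
      rw [hab, hρ, map_mul, map_pow, ← hτ, hβ]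
      ring
    have heβ : e = algebraMap B Bt β := by
      have hu : IsUnit (algebraMap B Bt τ ^ n) := hunit.pow n
      apply hu.mul_right_cancel
      rw [hea, haβ, map_mul, map_pow]
      ring
    have hβi : IsIdempotentElem β := by
      apply hinj
      rw [map_mul, ← heβ]
      exact he.eq
    rcases idem_of_local β hβi with h | h
    · left; rw [heβ, h, map_zero]
    · right; rw [heβ, h, map_one]
  rcases mul_eq_zero.mp hfac with h | h
  · exact key r (by linear_combination h)
  · exact key (1 - r) (by linear_combination h)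

end Groth.Agent.H78.BranchDim1
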