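import Mathlib
import Groth.Agent.H78.BranchDim1.Idem
import Groth.Agent.H78.MinPrimeFlat

/-!
# Uniqueness of the prime over `0` in dimension one

`D` a henselian local domain, `B` a Noetherian local ring of dimension `≤ 1`, flat over `D` with local
structure map, `m_D B = m_B` and trivial residue field extension.  Then `B` has at most one prime lying
over the zero ideal of `D`.
-/

set_option autoImplicit false
universe u

namespace Groth.Agent.H78.BranchDim1

open IsLocalRing

variable {D B : Type u} [CommRing D] [IsLocalRing D] [CommRing B] [IsLocalRing B] [Algebra D B]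

/-- `B = D + m_B^k` for all `k`. -/
theorem approx (hmax : (maximalIdeal D).map (algebraMap D B) = maximalIdeal B)
    (hres : ∀ b : B, ∃ d : D, b - algebraMap D B d ∈ maximalIdeal B) (k : ℕ) :
    ∀ b : B, ∃ d : D, b - algebraMap D B d ∈ maximalIdeal B ^ k := by
  induction k with
  | zero => intro b; exact ⟨0, by simp⟩
  | succ k ih =>
    have hpow : maximalIdeal B ^ k = (maximalIdeal D ^ k).map (algebraMap D B) := by
      rw [Ideal.map_pow, hmax]
    have claim : ∀ x ∈ (maximalIdeal D ^ k).map (algebraMap D B),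
        ∃ d : D, x - algebraMap D B d ∈ maximalIdeal B ^ (k + 1) := by
      intro x hx
      unfold Ideal.map at hx
      induction hx using Submodule.span_induction with
      | mem x h =>
        obtain ⟨c, -, rfl⟩ := h
        exact ⟨c, by simp⟩
      | zero => exact ⟨0, by simp⟩
      | add x y _ _ hx hy =>
        obtain ⟨d₁, h₁⟩ := hx
        obtain ⟨d₂, h₂⟩ := hy
        refine ⟨d₁ + d₂, ?_⟩
        have : x + y - algebraMap D B (d₁ + d₂) =
            (x - algebraMap D B d₁) + (y - algebraMap D B d₂) := by rw [map_add]; ring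
        rw [this]
        exact Ideal.add_mem _ h₁ h₂
      | smul b x hxs hx =>
        obtain ⟨d, hd⟩ := hx
        obtain ⟨d', hd'⟩ := hres b
        refine ⟨d' * d, ?_⟩
        have hxk : x ∈ maximalIdeal B ^ k := by rw [hpow]; exact hxs
        have : b • x - algebraMap D B (d' * d) =
            algebraMap D B d' * (x - algebraMap D B d) + (b - algebraMap D B d') * x := by
          rw [map_mul, smul_eq_mul]; ring
        rw [this]
        refine Ideal.add_mem _ (Ideal.mul_mem_left _ _ hd) ?_
        rw [pow_succ']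
        exact Ideal.mul_mem_mul hd' hxk
    intro b
    obtain ⟨d₀, hd₀⟩ := ih b
    rw [hpow] at hd₀
    obtain ⟨d₁, hd₁⟩ := claim _ hd₀
    refine ⟨d₀ + d₁, ?_⟩
    have : b - algebraMap D B (d₀ + d₁) = b - algebraMap D B d₀ - algebraMap D B d₁ := by
      rw [map_add]; ring
    rw [this]
    exact hd₁

/-- **Core.**  At most one prime of `B` lies over `0 ⊆ D`. -/
theorem unique_prime_over_bot {D B : Type u} [CommRing D] [IsDomain D] [HenselianLocalRing D]
    [CommRing B] [IsLocalRing B] [IsNoetherianRing B] [Ring.KrullDimLE 1 B]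
    [Algebra D B] [Module.Flat D B] [IsLocalHom (algebraMap D B)]
    (hmax : (maximalIdeal D).map (algebraMap D B) = maximalIdeal B)
    (hres : ∀ b : B, ∃ d : D, b - algebraMap D B d ∈ maximalIdeal B)
    (P₁ P₂ : Ideal B) [hP₁ : P₁.IsPrime] [hP₂ : P₂.IsPrime]
    (h₁ : P₁.comap (algebraMap D B) = ⊥) (h₂ : P₂.comap (algebraMap D B) = ⊥) : P₁ = P₂ := by
  by_cases hD : maximalIdeal D = ⊥
  · have hB : maximalIdeal B = ⊥ := by rw [← hmax, hD, Ideal.map_bot]
    have e₁ : P₁ = ⊥ := le_bot_iff.mp (hB ▸ le_maximalIdeal hP₁.ne_top)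
    have e₂ : P₂ = ⊥ := le_bot_iff.mp (hB ▸ le_maximalIdeal hP₂.ne_top)
    rw [e₁, e₂]
  obtain ⟨t, ht, ht0⟩ := Submodule.exists_mem_ne_zero_of_ne_bot hD
  set τ : B := algebraMap D B t with hτ
  have hτm : τ ∈ maximalIdeal B := by
    rw [← hmax]; exact Ideal.mem_map_of_mem _ ht
  -- primes containing `τ` are maximal
  have hprime : ∀ P : Ideal B, P.IsPrime → τ ∈ P → P = maximalIdeal B := by
    intro P hP hτP
    rcases Ring.krullDimLE_one_iff.mp ‹_› P hP with hmin | hmaxl
    · exfalso
      have := MinPrimeFlat.under_mem_minimalPrimes (R := D) hmin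
      rw [IsDomain.minimalPrimes_eq_singleton_bot, Set.mem_singleton_iff] at this
      have htP : t ∈ P.under D := hτP
      rw [this] at htP
      exact ht0 htP
    · exact IsLocalRing.eq_maximalIdeal hmaxl
  -- a power of the maximal ideal lies in `(τ)`
  have hrad : (Ideal.span {τ}).radical = maximalIdeal B := by
    rw [Ideal.radical_eq_sInf]
    apply le_antisymm
    · exact sInf_le ⟨(Ideal.span_singleton_le_iff_mem _).mpr hτm, inferInstance⟩
    · refine le_sInf ?_
      rintro P ⟨hle, hP⟩
      rw [hprime P hP (hle (Ideal.mem_span_singleton_self τ))]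
  obtain ⟨k, hk⟩ := Ideal.exists_radical_pow_le_of_fg (Ideal.span {τ})
    (IsNoetherian.noetherian _)
  rw [hrad] at hk
  have hsurj : ∀ (N : ℕ) (b : B), ∃ d : D, b - algebraMap D B d ∈
      Ideal.span {algebraMap D B t ^ N} := by
    intro N b
    obtain ⟨d, hd⟩ := approx hmax hres (k * N) b
    refine ⟨d, ?_⟩
    rw [← hτ, ← Ideal.span_singleton_pow]
    rw [pow_mul] at hd
    exact Ideal.pow_right_mono hk N hd
  -- the localization
  let Bt := Localization.Away τ
  haveI : IsNoetherianRing Bt := IsLocalization.isNoetherianRing (Submonoid.powers τ) Bt inferInstance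
  have hidem : ∀ e : Bt, IsIdempotentElem e → e = 0 ∨ e = 1 :=
    fun e he => idem_trivial t ht ht0 hsurj Bt e he
  have hunit : IsUnit (algebraMap B Bt τ) := IsLocalization.Away.algebraMap_isUnit τ
  haveI : Ring.KrullDimLE 0 Bt := by
    rw [Ring.krullDimLE_zero_iff]
    intro Q hQ
    obtain ⟨M, hM, hQM⟩ := Ideal.exists_le_maximal Q hQ.ne_top
    have hτM : τ ∉ M.comap (algebraMap B Bt) := by
      intro h
      exact hM.ne_top (Ideal.eq_top_of_isUnit_mem _ h hunit)
    have hMmin : M.comap (algebraMap B Bt) ∈ minimalPrimes B := by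
      rcases Ring.krullDimLE_one_iff.mp ‹_› (M.comap (algebraMap B Bt)) inferInstance with h | h
      · exact h
      · exfalso
        rw [IsLocalRing.eq_maximalIdeal h] at hτM
        exact hτM hτm
    have hcomap : M.comap (algebraMap B Bt) ≤ Q.comap (algebraMap B Bt) :=
      hMmin.2 ⟨inferInstance, bot_le⟩ (Ideal.comap_mono hQM)
    have : M ≤ Q := by
      rw [← IsLocalization.map_comap (Submonoid.powers τ) Bt M,
        ← IsLocalization.map_comap (Submonoid.powers τ) Bt Q]
      exact Ideal.map_mono hcomap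
    rw [le_antisymm hQM this]
    exact hM
  haveI : IsArtinianRing Bt := IsNoetherianRing.isArtinianRing_of_krullDimLE_zero
  -- the two points
  have hdisj : ∀ P : Ideal B, P.IsPrime → P.comap (algebraMap D B) = ⊥ →
      Disjoint (Submonoid.powers τ : Set B) (P : Set B) := by
    intro P hP hPc
    rw [Set.disjoint_left]
    rintro _ ⟨n, rfl⟩ hn
    have : τ ∈ P := hP.mem_of_pow_mem n hn
    have : t ∈ P.comap (algebraMap D B) := this
    rw [hPc] at this
    exact ht0 this
  have hQ₁ := IsLocalization.isPrime_of_isPrime_disjoint (Submonoid.powers τ) Bt P₁ hP₁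
    (hdisj P₁ hP₁ h₁)
  have hQ₂ := IsLocalization.isPrime_of_isPrime_disjoint (Submonoid.powers τ) Bt P₂ hP₂
    (hdisj P₂ hP₂ h₂)
  let x₁ : PrimeSpectrum Bt := ⟨_, hQ₁⟩
  let x₂ : PrimeSpectrum Bt := ⟨_, hQ₂⟩
  have hx : x₁ = x₂ := by
    by_contra hne
    obtain ⟨e, he, hs⟩ := PrimeSpectrum.exists_idempotent_basicOpen_eq_of_isClopen
      (isClopen_discrete ({x₁} : Set (PrimeSpectrum Bt)))
    rcases hidem e he with rfl | rfl
    · have : x₁ ∈ ({x₁} : Set (PrimeSpectrum Bt)) := rfl
      rw [hs] at this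
      simp at this
    · have : x₂ ∈ ({x₁} : Set (PrimeSpectrum Bt)) := by
        rw [hs]; simp
      exact hne (Set.mem_singleton_iff.mp this).symm
  have hQ : P₁.map (algebraMap B Bt) = P₂.map (algebraMap B Bt) := congrArg PrimeSpectrum.asIdeal hx
  rw [← IsLocalization.comap_map_of_isPrime_disjoint (Submonoid.powers τ) Bt hP₁ (hdisj P₁ hP₁ h₁),
    ← IsLocalization.comap_map_of_isPrime_disjoint (Submonoid.powers τ) Bt hP₂ (hdisj P₂ hP₂ h₂), hQ]

end Groth.Agent.H78.BranchDim1
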