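import Mathlib
import Groth.Agent.H78.BranchDim1.Core
import Groth.Agent.S13598

/-!
# Injectivity of `Spec H' → Spec H` in dimension one

`H` henselian local, `H'` Noetherian local of dimension `≤ 1`, flat over `H` with local structure map,
`m_H H' = m_H'` and trivial residue field extension.  Then two primes of `H'` with the same contraction
to `H` are equal.
-/

set_option autoImplicit false
set_option linter.style.haveILetI false
universe u

namespace Groth.Agent.H78.BranchDim1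

open IsLocalRing TensorProduct

section flat
variable {R S : Type u} [CommRing R] [CommRing S] [Algebra R S] (I : Ideal R)

/-- the quotient `S/IS` is flat over `R/I` when `S` is flat over `R` -/
theorem flat_quotient [Module.Flat R S] :
    Module.Flat (R ⧸ I) (S ⧸ I.map (algebraMap R S)) := by
  have hsurj : Function.Surjective (algebraMap R (R ⧸ I)) := Ideal.Quotient.mk_surjective
  let e₁ : ((R ⧸ I) ⊗[R] S) ≃ₗ[R] (S ⧸ (I • (⊤ : Submodule R S))) := quotTensorEquivQuotSMul S I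
  let e₂ : (S ⧸ (I • (⊤ : Submodule R S))) ≃ₗ[R]
      (S ⧸ (I.map (algebraMap R S)).restrictScalars R) :=
    Submodule.quotEquivOfEq _ _ (Ideal.smul_top_eq_map I)
  let e₃ : (S ⧸ (I.map (algebraMap R S)).restrictScalars R) ≃ₗ[R]
      (S ⧸ I.map (algebraMap R S)) :=
    Submodule.Quotient.restrictScalarsEquiv R (I.map (algebraMap R S))
  let e : ((R ⧸ I) ⊗[R] S) ≃ₗ[R ⧸ I] (S ⧸ I.map (algebraMap R S)) :=
    ((e₁.trans e₂).trans e₃).extendScalarsOfSurjective hsurj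
  exact Module.Flat.of_linearEquiv e.symm

end flat

section main

variable {H H' : Type u} [CommRing H] [HenselianLocalRing H] [CommRing H'] [IsLocalRing H']
  [IsNoetherianRing H'] [Ring.KrullDimLE 1 H'] [Algebra H H'] [Module.Flat H H']
  [IsLocalHom (algebraMap H H')]

/-- maximal ideal of a quotient of a local ring -/
theorem maximalIdeal_quotient {R : Type u} [CommRing R] [IsLocalRing R] (J : Ideal R)
    [IsLocalRing (R ⧸ J)] (hJ : J ≠ ⊤) :
    maximalIdeal (R ⧸ J) = (maximalIdeal R).map (Ideal.Quotient.mk J) := by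
  have : ((maximalIdeal R).map (Ideal.Quotient.mk J)).IsMaximal :=
    Ideal.IsMaximal.map_of_surjective_of_ker_le Ideal.Quotient.mk_surjective
      (by rw [Ideal.mk_ker]; exact le_maximalIdeal hJ)
  exact (IsLocalRing.eq_maximalIdeal this).symm

theorem eq_of_comap_eq
    (hmax : (maximalIdeal H).map (algebraMap H H') = maximalIdeal H')
    (hres : ∀ b : H', ∃ d : H, b - algebraMap H H' d ∈ maximalIdeal H')
    (q₁ q₂ : Ideal H') [hq₁ : q₁.IsPrime] [hq₂ : q₂.IsPrime]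
    (h : q₁.comap (algebraMap H H') = q₂.comap (algebraMap H H')) : q₁ = q₂ := by
  set q' : Ideal H := q₁.comap (algebraMap H H') with hq'
  haveI : q'.IsPrime := Ideal.comap_isPrime _ _
  set 𝔞 : Ideal H' := q'.map (algebraMap H H') with h𝔞
  have h𝔞₁ : 𝔞 ≤ q₁ := Ideal.map_comap_le
  have h𝔞₂ : 𝔞 ≤ q₂ := by rw [h𝔞, h]; exact Ideal.map_comap_le
  have h𝔞top : 𝔞 ≠ ⊤ := fun h => hq₁.ne_top (top_le_iff.mp (h ▸ h𝔞₁))
  haveI : Nontrivial (H' ⧸ 𝔞) := Ideal.Quotient.nontrivial_iff.mpr h𝔞top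
  haveI : IsLocalRing (H ⧸ q') :=
    IsLocalRing.of_surjective' (Ideal.Quotient.mk q') Ideal.Quotient.mk_surjective
  haveI : IsLocalRing (H' ⧸ 𝔞) :=
    IsLocalRing.of_surjective' (Ideal.Quotient.mk 𝔞) Ideal.Quotient.mk_surjective
  haveI : HenselianLocalRing (H ⧸ q') := Groth.Agent.S13598.henselian_quotient q'
  haveI : Module.Flat (H ⧸ q') (H' ⧸ 𝔞) := flat_quotient q'
  haveI : Ring.KrullDimLE 1 (H' ⧸ 𝔞) := by
    rw [Ring.krullDimLE_iff]
    exact (ringKrullDim_quotient_le 𝔞).trans (Ring.krullDimLE_iff.mp inferInstance)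
  have halg : ∀ x : H, algebraMap (H ⧸ q') (H' ⧸ 𝔞) (Ideal.Quotient.mk q' x) =
      Ideal.Quotient.mk 𝔞 (algebraMap H H' x) := fun x => rfl
  haveI : IsLocalHom (algebraMap (H ⧸ q') (H' ⧸ 𝔞)) := by
    refine ⟨fun a ha => ?_⟩
    obtain ⟨x, rfl⟩ := Ideal.Quotient.mk_surjective a
    rw [halg] at ha
    have h1 : IsUnit (algebraMap H H' x) := Groth.Agent.S13598.isUnit_of_isUnit_mk 𝔞 _ ha
    exact (isUnit_of_map_unit (algebraMap H H') x h1).map _
  have hq'top : q' ≠ ⊤ := Ideal.IsPrime.ne_top inferInstance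
  have hmaxD : maximalIdeal (H ⧸ q') = (maximalIdeal H).map (Ideal.Quotient.mk q') :=
    maximalIdeal_quotient q' hq'top
  have hmaxB : maximalIdeal (H' ⧸ 𝔞) = (maximalIdeal H').map (Ideal.Quotient.mk 𝔞) :=
    maximalIdeal_quotient 𝔞 h𝔞top
  have hcomp : (algebraMap (H ⧸ q') (H' ⧸ 𝔞)).comp (Ideal.Quotient.mk q') =
      (Ideal.Quotient.mk 𝔞).comp (algebraMap H H') := by
    ext x; rfl
  have hmax' : (maximalIdeal (H ⧸ q')).map (algebraMap (H ⧸ q') (H' ⧸ 𝔞)) =
      maximalIdeal (H' ⧸ 𝔞) := by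
    rw [hmaxD, hmaxB, ← hmax, Ideal.map_map, Ideal.map_map, hcomp]
  have hres' : ∀ b : H' ⧸ 𝔞, ∃ d : H ⧸ q', b - algebraMap (H ⧸ q') (H' ⧸ 𝔞) d ∈
      maximalIdeal (H' ⧸ 𝔞) := by
    intro b
    obtain ⟨b', rfl⟩ := Ideal.Quotient.mk_surjective b
    obtain ⟨d, hd⟩ := hres b'
    refine ⟨Ideal.Quotient.mk q' d, ?_⟩
    rw [halg, ← map_sub, hmaxB]
    exact Ideal.mem_map_of_mem _ hd
  -- the two primes downstairs
  have hker : RingHom.ker (Ideal.Quotient.mk 𝔞) = 𝔞 := Ideal.mk_ker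
  haveI hP₁ : (q₁.map (Ideal.Quotient.mk 𝔞)).IsPrime :=
    Ideal.map_isPrime_of_surjective Ideal.Quotient.mk_surjective (by rw [hker]; exact h𝔞₁)
  haveI hP₂ : (q₂.map (Ideal.Quotient.mk 𝔞)).IsPrime :=
    Ideal.map_isPrime_of_surjective Ideal.Quotient.mk_surjective (by rw [hker]; exact h𝔞₂)
  have hback : ∀ q : Ideal H', 𝔞 ≤ q → (q.map (Ideal.Quotient.mk 𝔞)).comap (Ideal.Quotient.mk 𝔞) = q := by
    intro q hq
    rw [Ideal.comap_map_of_surjective' _ Ideal.Quotient.mk_surjective, hker]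
    exact sup_eq_left.mpr hq
  have hbot : ∀ q : Ideal H', 𝔞 ≤ q → q.comap (algebraMap H H') = q' →
      (q.map (Ideal.Quotient.mk 𝔞)).comap (algebraMap (H ⧸ q') (H' ⧸ 𝔞)) = ⊥ := by
    intro q hq hqc
    rw [eq_bot_iff]
    intro a ha
    obtain ⟨x, rfl⟩ := Ideal.Quotient.mk_surjective a
    rw [Ideal.mem_comap, halg] at ha
    have h1 : algebraMap H H' x ∈ (q.map (Ideal.Quotient.mk 𝔞)).comap (Ideal.Quotient.mk 𝔞) := ha
    rw [hback q hq] at h1
    have h2 : x ∈ q' := by rw [← hqc]; exact h1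
    rw [Ideal.mem_bot, Ideal.Quotient.eq_zero_iff_mem]
    exact h2
  have key := unique_prime_over_bot (D := H ⧸ q') (B := H' ⧸ 𝔞) hmax' hres'
    (q₁.map (Ideal.Quotient.mk 𝔞)) (q₂.map (Ideal.Quotient.mk 𝔞))
    (hbot q₁ h𝔞₁ rfl) (hbot q₂ h𝔞₂ h.symm)
  rw [← hback q₁ h𝔞₁, ← hback q₂ h𝔞₂, key]

end main

end Groth.Agent.H78.BranchDim1
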