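import Mathlib
import Groth.Prelude.Def_Hensel
import Groth.Prelude.Def_Brnch
import Groth.Agent.H78.BranchDim1.Quot
import Groth.Agent.H78.HensCompl.Branches
import Groth.Agent.Lead.CompletionIAdic
import Groth.Agent.S0540
import Groth.Agent.S0541
import Groth.Agent.S0538

/-!
# Branches of a one-dimensional Noetherian local ring and of its completion
-/

set_option autoImplicit false
set_option linter.style.haveILetI false
universe u

namespace Groth.Agent.H78.BranchDim1

open IsLocalRing Groth.Agent.H3 Groth.Agent.H3.UnionEtale Groth.Agent.H78.HensCompl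

variable (A : Type u) [CommRing A] [IsLocalRing A] [IsNoetherianRing A]

/-- `Â = A + m̂` -/
theorem exists_sub_mem_maximalIdeal (b : AdicCompletion (maximalIdeal A) A) :
    ∃ a : A, b - algebraMap A (AdicCompletion (maximalIdeal A) A) a ∈
      maximalIdeal (AdicCompletion (maximalIdeal A) A) := by
  obtain ⟨a, ha⟩ := Ideal.Quotient.mk_surjective (AdicCompletion.evalOneₐ (maximalIdeal A) b)
  refine ⟨a, ?_⟩
  rw [AdicCompletion.maximalIdeal_eq_map,
    ← AdicCompletion.ker_evalOneₐ_eq_map (maximalIdeal A) (maximalIdeal A).fg_of_isNoetherianRing,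
    RingHom.mem_ker]
  change AdicCompletion.evalOneₐ (maximalIdeal A) (b - _) = 0
  rw [map_sub, ← ha, sub_eq_zero]
  exact (AdicCompletion.evalOneₐ_of (maximalIdeal A) a).symm

theorem krullDimLE_one_adicCompletion (hA : ringKrullDim A = 1) :
    Ring.KrullDimLE 1 (AdicCompletion (maximalIdeal A) A) := by
  rw [Ring.krullDimLE_iff, Groth.Agent.Lead.RLR.ringKrullDim_adicCompletion_eq A (maximalIdeal A)
    (Ideal.IsPrime.ne_top inferInstance), hA]
  rfl

/-- cardinality inequality from an injection between sets -/
theorem enat_card_le_of_injOn {α β : Type*} (f : α → β) (s : Set α) (t : Set β)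
    (hm : Set.MapsTo f s t) (hi : Set.InjOn f s) : ENat.card s ≤ ENat.card t := by
  let g : s → t := fun x => ⟨f x, hm x.2⟩
  have hinj : Function.Injective g := by
    intro x y hxy
    exact Subtype.ext (hi x.2 y.2 (congrArg Subtype.val hxy))
  exact ENat.card_le_card_of_injective hinj

theorem numBranches_eq (hA : ringKrullDim A = 1) :
    Brnch.numBranches (AdicCompletion (maximalIdeal A) A) = Brnch.numBranches A := by
  obtain ⟨S, _, _, _, _, hH⟩ := Groth.Agent.S0506.result A
  haveI := hH
  haveI := henselianLocalRing_adicCompletion A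
  haveI : IsLocalHom (algebraMap A (AdicCompletion (maximalIdeal A) A)) := by
    refine ((IsLocalRing.local_hom_TFAE _).out 0 2).mpr ?_
    rw [← AdicCompletion.maximalIdeal_eq_map]
  obtain ⟨ψ, hψ, -⟩ := hH.universal (AdicCompletion (maximalIdeal A) A)
    (algebraMap A (AdicCompletion (maximalIdeal A) A)) inferInstance
  obtain ⟨hmaps, hsurj⟩ := main A S ψ hψ
  obtain ⟨hflat, hloc⟩ := flat_and_isLocalHom A S ψ hψ
  rw [numBranches_adicCompletion, ← Groth.Agent.S9237.result A S]
  refine le_antisymm ?_ (enat_card_le_of_surjOn _ _ _ hsurj)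
  refine enat_card_le_of_injOn _ _ _ hmaps ?_
  -- injectivity
  letI : Algebra S (AdicCompletion (maximalIdeal A) A) := ψ.toAlgebra
  haveI : Module.Flat S (AdicCompletion (maximalIdeal A) A) := hflat
  haveI : IsLocalHom (algebraMap S (AdicCompletion (maximalIdeal A) A)) := hloc
  haveI : HenselianLocalRing S := hH.henselian
  haveI : IsNoetherianRing (AdicCompletion (maximalIdeal A) A) :=
    Groth.Agent.Lead.RLR.isNoetherianRing_adicCompletion' A (maximalIdeal A)
  haveI := krullDimLE_one_adicCompletion A hA
  have hPS := Groth.Agent.H3.HensIso.isPairHenselization_of_isHenselization hH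
  have hmS : maximalIdeal S = (maximalIdeal A).map (algebraMap A S) :=
    Groth.Agent.H3.HensLocal.maximalIdeal_eq hPS
  have hmax : (maximalIdeal S).map (algebraMap S (AdicCompletion (maximalIdeal A) A)) =
      maximalIdeal (AdicCompletion (maximalIdeal A) A) := by
    change (maximalIdeal S).map ψ = _
    rw [hmS, Ideal.map_map, hψ, ← AdicCompletion.maximalIdeal_eq_map]
  have hres : ∀ b : AdicCompletion (maximalIdeal A) A, ∃ d : S,
      b - algebraMap S (AdicCompletion (maximalIdeal A) A) d ∈
        maximalIdeal (AdicCompletion (maximalIdeal A) A) := by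
    intro b
    obtain ⟨a, ha⟩ := exists_sub_mem_maximalIdeal A b
    refine ⟨algebraMap A S a, ?_⟩
    change b - ψ (algebraMap A S a) ∈ _
    have : ψ (algebraMap A S a) = algebraMap A (AdicCompletion (maximalIdeal A) A) a := by
      rw [← hψ]; rfl
    rw [this]
    exact ha
  intro q₁ hq₁ q₂ hq₂ h
  haveI := hq₁.1.1
  haveI := hq₂.1.1
  exact eq_of_comap_eq (H := S) (H' := AdicCompletion (maximalIdeal A) A) hmax hres q₁ q₂ h

theorem numGeomBranches_eq (hA : ringKrullDim A = 1) :
    Brnch.numGeomBranches (AdicCompletion (maximalIdeal A) A) = Brnch.numGeomBranches A := by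
  obtain ⟨Ash, _, _, _, _, hSH⟩ := Groth.Agent.S0537.result A
  obtain ⟨T, _, _, _, _, hT⟩ := Groth.Agent.S0537.result (AdicCompletion (maximalIdeal A) A)
  haveI := hSH
  haveI := hT
  haveI : HenselianLocalRing T := hT.henselian
  haveI : IsLocalHom (algebraMap A (AdicCompletion (maximalIdeal A) A)) := by
    refine ((IsLocalRing.local_hom_TFAE _).out 0 2).mpr ?_
    rw [← AdicCompletion.maximalIdeal_eq_map]
  let f : A →+* T := (algebraMap (AdicCompletion (maximalIdeal A) A) T).comp
    (algebraMap A (AdicCompletion (maximalIdeal A) A))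
  haveI hfloc : IsLocalHom f := RingHom.isLocalHom_comp _ _
  -- the residue field map
  letI : Algebra (ResidueField A) (ResidueField T) := (ResidueField.map f).toAlgebra
  haveI : IsSepClosed (ResidueField T) := hT.isSepClosure.sep_closed
  haveI : IsSepClosed (ResidueField Ash) := hSH.isSepClosure.sep_closed
  haveI : Algebra.IsSeparable (ResidueField A) (ResidueField Ash) := hSH.isSepClosure.separable
  let τ₀ : ResidueField Ash →ₐ[ResidueField A] ResidueField T := IsSepClosed.lift
  let τ : ResidueField Ash →+* ResidueField T := τ₀.toRingHom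
  have hτ : τ.comp (ResidueField.map (algebraMap A Ash)) = ResidueField.map f := by
    ext x
    exact τ₀.commutes x
  obtain ⟨g, ⟨hg, hgτ⟩, -⟩ := hSH.universal T f τ hτ
  -- flatness
  obtain ⟨hU, hff⟩ := Groth.Agent.H3.HensUnion.package (Or.inr hSH)
  obtain ⟨-, hffT⟩ := Groth.Agent.H3.HensUnion.package (Or.inr hT)
  letI : Algebra A T := f.toAlgebra
  haveI : IsScalarTower A (AdicCompletion (maximalIdeal A) A) T :=
    IsScalarTower.of_algebraMap_eq fun x => rfl
  haveI : Module.Flat (AdicCompletion (maximalIdeal A) A) T := hffT.toFlat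
  haveI : Module.Flat A T := Module.Flat.trans A (AdicCompletion (maximalIdeal A) A) T
  letI : Algebra Ash T := g.toAlgebra
  haveI : IsScalarTower A Ash T := IsScalarTower.of_algebraMap_eq fun x => by
    change f x = g (algebraMap A Ash x)
    rw [← hg]; rfl
  haveI : Module.Flat Ash T := hU.flat_of_flat T
  have hmT : (maximalIdeal A).map f = maximalIdeal T := by
    change (maximalIdeal A).map ((algebraMap (AdicCompletion (maximalIdeal A) A) T).comp
      (algebraMap A (AdicCompletion (maximalIdeal A) A))) = _
    rw [← Ideal.map_map, ← AdicCompletion.maximalIdeal_eq_map]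
    exact Groth.Agent.S0538.result (AdicCompletion (maximalIdeal A) A) T
  have hmax : (maximalIdeal Ash).map (algebraMap Ash T) = maximalIdeal T := by
    rw [← Groth.Agent.S0538.result A Ash, Ideal.map_map]
    change (maximalIdeal A).map (g.comp (algebraMap A Ash)) = _
    rw [hg, hmT]
  haveI : IsLocalHom (algebraMap Ash T) := by
    refine ((IsLocalRing.local_hom_TFAE (algebraMap Ash T)).out 0 2).mpr ?_
    rw [hmax]
  haveI : Module.FaithfullyFlat Ash T := Module.FaithfullyFlat.of_flat_of_isLocalHom
  rw [← Groth.Agent.S9238.result A Ash,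
    ← Groth.Agent.S9238.result (AdicCompletion (maximalIdeal A) A) T]
  refine le_antisymm ?_
    (enat_card_le_of_surjOn _ _ _ (MinPrimeFlat.surjOn_under_minimalPrimes (R := Ash) (S := T)))
  refine enat_card_le_of_injOn (fun Q : Ideal T => Q.under Ash) _ _
    (fun Q hQ => MinPrimeFlat.under_mem_minimalPrimes (R := Ash) hQ) ?_
  -- injectivity
  haveI : HenselianLocalRing Ash := hSH.henselian
  haveI : IsNoetherianRing (AdicCompletion (maximalIdeal A) A) :=
    Groth.Agent.Lead.RLR.isNoetherianRing_adicCompletion' A (maximalIdeal A)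
  haveI : IsNoetherianRing T :=
    (Groth.Agent.S0540.result (AdicCompletion (maximalIdeal A) A) T).mp inferInstance
  haveI : Ring.KrullDimLE 1 T := by
    rw [Ring.krullDimLE_iff, Groth.Agent.S0541.result (AdicCompletion (maximalIdeal A) A) T]
    exact Ring.krullDimLE_iff.mp (krullDimLE_one_adicCompletion A hA)
  -- surjectivity of the residue field map
  have hτsurj : Function.Surjective τ := by
    -- `κ(A) → κ(Â)` is bijective
    have hbij : Function.Bijective (ResidueField.map
        (algebraMap A (AdicCompletion (maximalIdeal A) A))) := by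
      refine ⟨RingHom.injective _, fun y => ?_⟩
      obtain ⟨b, rfl⟩ := IsLocalRing.residue_surjective y
      obtain ⟨a, ha⟩ := exists_sub_mem_maximalIdeal A b
      refine ⟨IsLocalRing.residue A a, ?_⟩
      rw [ResidueField.map_residue, eq_comm, ← sub_eq_zero, ← map_sub]
      exact (IsLocalRing.residue_eq_zero_iff _).mpr ha
    let e₁ : ResidueField (AdicCompletion (maximalIdeal A) A) ≃+* ResidueField A :=
      (RingEquiv.ofBijective _ hbij).symm
    haveI : Algebra.IsSeparable (ResidueField (AdicCompletion (maximalIdeal A) A))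
        (ResidueField T) := hT.isSepClosure.separable
    haveI : Algebra.IsSeparable (ResidueField A) (ResidueField T) := by
      refine Algebra.IsSeparable.of_equiv_equiv e₁ (RingEquiv.refl (ResidueField T)) ?_
      ext y
      obtain ⟨x, rfl⟩ := e₁.symm.surjective y
      simp only [RingHom.coe_comp, RingHom.coe_coe, Function.comp_apply,
        RingEquiv.apply_symm_apply, RingEquiv.refl_apply]
      change ResidueField.map f x = ResidueField.map (algebraMap _ T)
        (ResidueField.map (algebraMap A (AdicCompletion (maximalIdeal A) A)) x)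
      obtain ⟨a, rfl⟩ := IsLocalRing.residue_surjective x
      rfl
    letI : Algebra (ResidueField Ash) (ResidueField T) := τ.toAlgebra
    haveI : IsScalarTower (ResidueField A) (ResidueField Ash) (ResidueField T) :=
      IsScalarTower.of_algebraMap_eq fun x => (τ₀.commutes x).symm
    haveI : Algebra.IsSeparable (ResidueField Ash) (ResidueField T) :=
      Algebra.isSeparable_tower_top_of_isSeparable (ResidueField A) (ResidueField Ash)
        (ResidueField T)
    exact IsSepClosed.algebraMap_surjective (ResidueField Ash) (ResidueField T)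
  have hres : ∀ b : T, ∃ d : Ash, b - algebraMap Ash T d ∈ maximalIdeal T := by
    intro b
    obtain ⟨y, hy⟩ := hτsurj (IsLocalRing.residue T b)
    obtain ⟨d, rfl⟩ := IsLocalRing.residue_surjective y
    refine ⟨d, ?_⟩
    rw [← IsLocalRing.residue_eq_zero_iff, map_sub, sub_eq_zero, ← hy]
    exact (hgτ d).symm
  intro q₁ hq₁ q₂ hq₂ h
  haveI := hq₁.1.1
  haveI := hq₂.1.1
  exact eq_of_comap_eq (H := Ash) (H' := T) hmax hres q₁ q₂ h

/-- **S9241.** -/
theorem branches_eq (hA : ringKrullDim A = 1) :
    Brnch.numBranches (AdicCompletion (IsLocalRing.maximalIdeal A) A) = Brnch.numBranches A ∧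
      Brnch.numGeomBranches (AdicCompletion (IsLocalRing.maximalIdeal A) A) =
        Brnch.numGeomBranches A :=
  ⟨numBranches_eq A hA, numGeomBranches_eq A hA⟩

end Groth.Agent.H78.BranchDim1
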