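import Mathlib

/-!
# Flat base change of a colon ideal (elementwise form)

`B` flat over `D`, `g₁,…,g_r, τ ∈ D`, `b, c₁,…,c_r ∈ B` with `g_i b = τ c_i`.  Then `b = Σ_j q_j y_j`
with `q_j ∈ (τ : g₁,…,g_r)`.
-/

set_option autoImplicit false
universe u

namespace Groth.Agent.H78.BranchDim1

variable {D B : Type u} [CommRing D] [CommRing B] [Algebra D B] [Module.Flat D B]

theorem exists_colon_combination {r : ℕ} (g : Fin r → D) (τ : D) (b : B) (c : Fin r → B)
    (h : ∀ i, algebraMap D B (g i) * b = algebraMap D B τ * c i) :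
    ∃ (k : ℕ) (q : Fin k → D) (y : Fin k → B),
      b = ∑ j, algebraMap D B (q j) * y j ∧ ∀ i j, ∃ d : D, g i * q j = τ * d := by
  classical
  let x : (Fin (r + 1) → D) →ₗ[D] B := Fintype.linearCombination D (Fin.cons b c : Fin (r + 1) → B)
  let f : (Fin r → D) →ₗ[D] (Fin (r + 1) → D) :=
    Fintype.linearCombination D (fun i : Fin r =>
      g i • (Pi.single 0 1 : Fin (r + 1) → D) - τ • (Pi.single i.succ 1 : Fin (r + 1) → D))
  have hx0 : x (Pi.single 0 1) = b := by
    simp [x, Fintype.linearCombination_apply_single]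
  have hxs : ∀ i : Fin r, x (Pi.single i.succ 1) = c i := by
    intro i
    simp [x, Fintype.linearCombination_apply_single]
  have hf : ∀ i : Fin r, f (Pi.single i 1) =
      g i • (Pi.single 0 1 : Fin (r + 1) → D) - τ • (Pi.single i.succ 1 : Fin (r + 1) → D) := by
    intro i
    simp [f, Fintype.linearCombination_apply_single]
  have hxf : x ∘ₗ f = 0 := by
    apply LinearMap.pi_ext'
    intro i
    ext
    simp only [LinearMap.coe_comp, LinearMap.coe_single, Function.comp_apply, LinearMap.zero_apply]
    rw [hf, map_sub, map_smul, map_smul, hx0, hxs, Algebra.smul_def, Algebra.smul_def, h, sub_self]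
  obtain ⟨k, a, y, hxy, haf⟩ := Module.Flat.exists_factorization_of_comp_eq_zero_of_free hxf
  refine ⟨k, fun j => a (Pi.single 0 1) j, fun j => y (Finsupp.single j 1), ?_, ?_⟩
  · rw [← hx0, hxy, LinearMap.comp_apply]
    conv_lhs => rw [← Finsupp.univ_sum_single (a (Pi.single 0 1))]
    rw [map_sum]
    refine Finset.sum_congr rfl fun j _ => ?_
    rw [← Algebra.smul_def, ← map_smul, Finsupp.smul_single, smul_eq_mul, mul_one]
  · intro i j
    refine ⟨a (Pi.single i.succ 1) j, ?_⟩
    have h1 : a (f (Pi.single i 1)) = 0 := by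
      rw [← LinearMap.comp_apply, haf, LinearMap.zero_apply]
    rw [hf, map_sub, map_smul, map_smul, sub_eq_zero] at h1
    have h2 := DFunLike.congr_fun h1 j
    simpa using h2

end Groth.Agent.H78.BranchDim1
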