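import Mathlib
import Groth.Agent.H78.BranchDim1.Core
import Groth.Agent.H78.BranchDim1.Colon

/-!
# No disconnection of the punctured spectrum over a henselian local domain

`D` a henselian local domain with finitely generated maximal ideal, `B` a local ring flat over `D` with
local structure map, `m_D B = m_B`, trivial residue field extension.  If `J₁ J₂ = 0` and
`m_B^N ⊆ J₁ + J₂`, then for `0 ≠ t ∈ m_D` one of `J₁`, `J₂` contains `t^N`.
-/

set_option autoImplicit false
universe u

namespace Groth.Agent.H78.BranchDim1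

open IsLocalRing Polynomial

theorem pow_mem_or_pow_mem
    {D B : Type u} [CommRing D] [IsDomain D] [HenselianLocalRing D] [CommRing B] [IsLocalRing B]
    [Algebra D B] [Module.Flat D B] [IsLocalHom (algebraMap D B)]
    (hfg : (maximalIdeal D).FG)
    (hmax : (maximalIdeal D).map (algebraMap D B) = maximalIdeal B)
    (hres : ∀ b : B, ∃ d : D, b - algebraMap D B d ∈ maximalIdeal B)
    (J₁ J₂ : Ideal B) (hJ : J₁ * J₂ = ⊥) (N : ℕ) (hN : maximalIdeal B ^ N ≤ J₁ ⊔ J₂)
    (t : D) (ht : t ∈ maximalIdeal D) (ht0 : t ≠ 0) :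
    algebraMap D B t ^ N ∈ J₁ ∨ algebraMap D B t ^ N ∈ J₂ := by
  classical
  obtain ⟨r, f, hf⟩ := Submodule.fg_iff_exists_fin_generating_family.mp hfg
  set τ : B := algebraMap D B t with hτ
  have hreg : IsSMulRegular B τ :=
    IsSMulRegular.of_flat ((IsRegular.of_ne_zero ht0).left.isSMulRegular)
  have hcancel : ∀ (n : ℕ) (u v : B), τ ^ n * u = τ ^ n * v → u = v := fun n u v h =>
    (hreg.pow n) (by simpa [smul_eq_mul] using h)
  -- decompositions
  have hdec : ∀ s ∈ maximalIdeal D, ∃ a ∈ J₁, ∃ b ∈ J₂, a + b = algebraMap D B s ^ N := by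
    intro s hs
    have h1 : algebraMap D B s ∈ maximalIdeal B := by
      rw [← hmax]; exact Ideal.mem_map_of_mem _ hs
    exact Submodule.mem_sup.mp (hN (Ideal.pow_mem_pow h1 N))
  obtain ⟨at_, hat, bt, hbt, habt⟩ := hdec t ht
  have hfm : ∀ i, f i ∈ maximalIdeal D := fun i => by
    rw [← hf]; exact Submodule.subset_span ⟨i, rfl⟩
  choose a ha b hb hab using fun i => hdec (f i) (hfm i)
  have hzero : ∀ u ∈ J₁, ∀ v ∈ J₂, u * v = 0 := fun u hu v hv => by
    have := Ideal.mul_mem_mul hu hv
    rwa [hJ, Ideal.mem_bot] at this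
  have R1 : ∀ i, algebraMap D B (f i ^ N) * bt = algebraMap D B (t ^ N) * b i := by
    intro i
    rw [map_pow, map_pow, ← hab i, ← habt]
    have h1 := hzero (a i) (ha i) bt hbt
    have h2 := hzero at_ hat (b i) (hb i)
    linear_combination h1 - h2
  have R2 : bt * bt = τ ^ N * bt := by
    rw [← habt]
    have := hzero at_ hat bt hbt
    linear_combination -this
  obtain ⟨k, q, y, hbq, hq⟩ := exists_colon_combination (fun i => f i ^ N) (t ^ N) bt b R1
  choose cq hcq using hq
  -- a power of the maximal ideal inside `(f_i^N)`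
  have hrad : maximalIdeal D ≤ (Ideal.span (Set.range fun i => f i ^ N)).radical := by
    rw [← hf]
    refine Submodule.span_le.mpr ?_
    rintro _ ⟨i, rfl⟩
    exact ⟨N, Ideal.subset_span ⟨i, rfl⟩⟩
  obtain ⟨j₁, hj₁⟩ := Ideal.exists_pow_le_of_le_radical_of_fg hrad hfg
  have hj₁' : maximalIdeal B ^ j₁ ≤ Ideal.span (Set.range fun i => algebraMap D B (f i ^ N)) := by
    rw [← hmax, ← Ideal.map_pow]
    refine (Ideal.map_mono hj₁).trans (le_of_eq ?_)
    rw [Ideal.map_span, ← Set.range_comp]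
    rfl
  have Qmult : ∀ (q₀ : D), (∀ i, ∃ d, f i ^ N * q₀ = t ^ N * d) → ∀ (K : Ideal B) (w : B),
      w ∈ maximalIdeal B ^ j₁ * K → ∃ w' ∈ K, algebraMap D B q₀ * w = τ ^ N * w' := by
    intro q₀ hq₀ K w hw
    choose d hd using hq₀
    have hd' : ∀ i, algebraMap D B q₀ * algebraMap D B (f i ^ N) =
        τ ^ N * algebraMap D B (d i) := by
      intro i
      rw [← map_mul, mul_comm, hd i, map_mul, map_pow]
    refine Submodule.smul_induction_on hw ?_ ?_
    · intro m hm n hn
      obtain ⟨β, rfl⟩ := (Ideal.mem_span_range_iff_exists_fun).mp (hj₁' hm)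
      refine ⟨(∑ i, β i * algebraMap D B (d i)) * n, Ideal.mul_mem_left _ _ hn, ?_⟩
      rw [smul_eq_mul, ← mul_assoc, Finset.mul_sum, ← mul_assoc, Finset.mul_sum]
      congr 1
      refine Finset.sum_congr rfl fun i _ => ?_
      have := hd' i
      linear_combination β i * this
    · rintro w₁ w₂ ⟨w₁', h₁, e₁⟩ ⟨w₂', h₂, e₂⟩
      exact ⟨w₁' + w₂', K.add_mem h₁ h₂, by rw [mul_add, e₁, e₂, mul_add]⟩
  -- approximate the `y j`
  have happ := approx hmax hres (j₁ + (j₁ + 1))
  choose d hd using fun j => happ (y j)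
  set x : D := ∑ j, q j * d j with hx
  have hw : ∀ j, ∃ w' ∈ maximalIdeal B ^ (j₁ + 1),
      algebraMap D B (q j) * (y j - algebraMap D B (d j)) = τ ^ N * w' := fun j =>
    Qmult (q j) (fun i => ⟨cq i j, hcq i j⟩) _ _ (by rw [← pow_add]; exact hd j)
  choose w' hw'm hw' using hw
  set y'' : B := ∑ j, w' j with hy''
  have hy''m : y'' ∈ maximalIdeal B ^ (j₁ + 1) := Ideal.sum_mem _ fun j _ => hw'm j
  have hbt' : bt = algebraMap D B x + τ ^ N * y'' := by
    rw [hbq, hx, hy'', map_sum, Finset.mul_sum, ← Finset.sum_add_distrib]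
    refine Finset.sum_congr rfl fun j _ => ?_
    rw [← hw' j, map_mul]
    ring
  have hxQ : ∀ i, ∃ e, f i ^ N * x = t ^ N * e := fun i => ⟨∑ j, cq i j * d j, by
    rw [hx, Finset.mul_sum, Finset.mul_sum]
    refine Finset.sum_congr rfl fun j _ => ?_
    rw [← mul_assoc, hcq i j, mul_assoc]⟩
  obtain ⟨w'', hw''m, hw''⟩ := Qmult x hxQ (maximalIdeal B) y'' (by rw [← pow_succ]; exact hy''m)
  have hy''m1 : y'' ∈ maximalIdeal B := Ideal.pow_le_self (Nat.succ_ne_zero j₁) hy''m
  have hz : algebraMap D B (x * x - t ^ N * x) =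
      algebraMap D B (t ^ N * t ^ N) * (y'' - 2 * w'' - y'' * y'') := by
    have h1 := R2
    rw [hbt'] at h1
    simp only [map_sub, map_mul, map_pow, ← hτ]
    linear_combination h1 - 2 * τ ^ N * hw''
  haveI : Module.FaithfullyFlat D B := Module.FaithfullyFlat.of_flat_of_isLocalHom
  have hzmem : x * x - t ^ N * x ∈ Ideal.span {t ^ N * t ^ N} * maximalIdeal D := by
    rw [← Ideal.comap_map_eq_self_of_faithfullyFlat (B := B)
      (Ideal.span {t ^ N * t ^ N} * maximalIdeal D), Ideal.mem_comap, Ideal.map_mul, hmax,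
      Ideal.map_span, Set.image_singleton, hz]
    refine Ideal.mul_mem_mul (Ideal.subset_span rfl) ?_
    exact Ideal.sub_mem _ (Ideal.sub_mem _ hy''m1 (Ideal.mul_mem_left _ _ hw''m))
      (Ideal.mul_mem_left _ _ hy''m1)
  obtain ⟨c, hcm, hcz⟩ := Ideal.mem_span_singleton_mul.mp hzmem
  -- the root of `X^2 - X - c`
  obtain ⟨ρ₀, hρ₀, -⟩ := HenselianLocalRing.is_henselian (X ^ 2 - X - C c : D[X])
    (by
      have : (X ^ 2 - X - C c : D[X]) = X ^ 2 - (X + C c) := by ring
      rw [this]
      apply monic_X_pow_sub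
      rw [degree_X_add_C]
      norm_num) 0
    (by simpa using hcm)
    (by
      simp only [derivative_sub, derivative_X_pow, derivative_X, derivative_C, eval_sub, eval_mul,
        eval_pow, eval_X, eval_one, eval_zero]
      simp)
  have hρ₀' : ρ₀ ^ 2 - ρ₀ - c = 0 := by simpa [IsRoot.def] using hρ₀
  have hfac : (x - t ^ N * ρ₀) * (x - t ^ N * (1 - ρ₀)) = 0 := by
    linear_combination -hcz - t ^ N * t ^ N * hρ₀'
  have key : ∀ ρ : D, x = t ^ N * ρ → τ ^ N ∈ J₁ ∨ τ ^ N ∈ J₂ := by
    intro ρ hρ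
    set β : B := algebraMap D B ρ + y'' with hβ
    have hbβ : bt = τ ^ N * β := by
      rw [hbt', hρ, map_mul, map_pow, ← hτ, hβ]
      ring
    have hβi : IsIdempotentElem β := by
      apply hcancel N
      apply hcancel N
      have := R2
      rw [hbβ] at this
      linear_combination this
    rcases idem_of_local β hβi with h | h
    · left
      rw [h, mul_zero] at hbβ
      rw [← habt, hbβ, add_zero]
      exact hat
    · right
      rw [h, mul_one] at hbβ
      rw [← hbβ]
      exact hbt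
  rcases mul_eq_zero.mp hfac with h | h
  · exact key ρ₀ (by linear_combination h)
  · exact key (1 - ρ₀) (by linear_combination h)

end Groth.Agent.H78.BranchDim1
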