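import Mathlib
import Groth.Agent.H78.BranchDim1.Disconnect
import Groth.Agent.H78.BranchDim1.Quot

/-!
# A one-dimensional component of the completion is the only component over its minimal prime
-/

set_option autoImplicit false
set_option linter.style.haveILetI false
universe u

namespace Groth.Agent.H78.BranchDim1

open IsLocalRing

/-- `D` henselian local domain, `B` Noetherian local, flat over `D` etc.  If a minimal prime `Q` of `B`
has `dim B/Q ≤ 1`, then it is the only minimal prime of `B`. -/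
theorem minimalPrime_unique
    {D B : Type u} [CommRing D] [IsDomain D] [HenselianLocalRing D] [CommRing B] [IsLocalRing B]
    [IsNoetherianRing B] [Algebra D B] [Module.Flat D B] [IsLocalHom (algebraMap D B)]
    (hfg : (maximalIdeal D).FG)
    (hmax : (maximalIdeal D).map (algebraMap D B) = maximalIdeal B)
    (hres : ∀ b : B, ∃ d : D, b - algebraMap D B d ∈ maximalIdeal B)
    (Q : Ideal B) (hQmin : Q ∈ minimalPrimes B)
    (hQdim : ∀ P : Ideal B, P.IsPrime → Q ≤ P → P = Q ∨ P = maximalIdeal B)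
    (P : Ideal B) (hP : P ∈ minimalPrimes B) : P = Q := by
  classical
  by_contra hne
  haveI hQp : Q.IsPrime := hQmin.1.1
  haveI hPp : P.IsPrime := hP.1.1
  have hunder : ∀ P' ∈ minimalPrimes B, P'.comap (algebraMap D B) = ⊥ := by
    intro P' hP'
    have := MinPrimeFlat.under_mem_minimalPrimes (R := D) hP'
    rw [IsDomain.minimalPrimes_eq_singleton_bot, Set.mem_singleton_iff] at this
    exact this
  -- `D` is not a field
  have hD : maximalIdeal D ≠ ⊥ := by
    intro hD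
    have hB : maximalIdeal B = ⊥ := by rw [← hmax, hD, Ideal.map_bot]
    have e₁ : P = ⊥ := le_bot_iff.mp (hB ▸ le_maximalIdeal hPp.ne_top)
    have e₂ : Q = ⊥ := le_bot_iff.mp (hB ▸ le_maximalIdeal hQp.ne_top)
    exact hne (e₁.trans e₂.symm)
  obtain ⟨t, ht, ht0⟩ := Submodule.exists_mem_ne_zero_of_ne_bot hD
  set Ms : Set (Ideal B) := minimalPrimes B \ {Q} with hMs
  have hfin : Ms.Finite := (minimalPrimes.finite_of_isNoetherianRing (R := B)).subset Set.sdiff_subset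
  set J : Ideal B := sInf Ms with hJdef
  have hPMs : P ∈ Ms := ⟨hP, hne⟩
  have hJP : J ≤ P := sInf_le hPMs
  have hQJ : Q ⊓ J ≤ nilradical B := by
    rw [hJdef, ← sInf_insert, hMs, Set.insert_sdiff_singleton, Set.insert_eq_of_mem hQmin]
    have : sInf (minimalPrimes B) = nilradical B := by
      rw [nilradical, ← Ideal.sInf_minimalPrimes]
      rfl
    rw [this]
  obtain ⟨n₀, hn₀⟩ := IsNoetherianRing.isNilpotent_nilradical B
  have hn₀ne : n₀ ≠ 0 := by
    intro h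
    rw [h, pow_zero, Ideal.one_eq_top] at hn₀
    exact (top_ne_bot (α := Ideal B)) hn₀
  have hJ12 : Q ^ n₀ * J ^ n₀ = ⊥ := by
    rw [← mul_pow, eq_bot_iff, ← Ideal.zero_eq_bot, ← hn₀]
    exact Ideal.pow_right_mono (Ideal.mul_le_inf.trans hQJ) n₀
  -- `J₁ + J₂` is primary to the maximal ideal
  have hrad : (Q ^ n₀ ⊔ J ^ n₀).radical = maximalIdeal B := by
    rw [Ideal.radical_eq_sInf]
    apply le_antisymm
    · refine sInf_le ⟨?_, inferInstance⟩
      exact sup_le ((Ideal.pow_le_self hn₀ne).trans (le_maximalIdeal hQp.ne_top))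
        ((Ideal.pow_le_self hn₀ne).trans (hJP.trans (le_maximalIdeal hPp.ne_top)))
    · refine le_sInf ?_
      rintro P' ⟨hle, hP'⟩
      have h1 : Q ≤ P' := hP'.le_of_pow_le (le_sup_left.trans hle)
      have h2 : J ≤ P' := hP'.le_of_pow_le (le_sup_right.trans hle)
      rcases hQdim P' hP' h1 with h | h
      · exfalso
        rw [h, hJdef, ← hfin.coe_toFinset, ← Finset.inf_id_eq_sInf, hQp.inf_le'] at h2
        obtain ⟨M, hM, hMQ⟩ := h2
        rw [hfin.mem_toFinset] at hM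
        have : M = Q := le_antisymm hMQ (hQmin.2 ⟨hM.1.1.1, bot_le⟩ hMQ)
        exact hM.2 this
      · rw [h]
  obtain ⟨N, hN⟩ := Ideal.exists_radical_pow_le_of_fg (Q ^ n₀ ⊔ J ^ n₀) (IsNoetherian.noetherian _)
  rw [hrad] at hN
  rcases pow_mem_or_pow_mem hfg hmax hres (Q ^ n₀) (J ^ n₀) hJ12 N hN t ht ht0 with h | h
  · have h1 : algebraMap D B t ∈ Q := hQp.mem_of_pow_mem _ (Ideal.pow_le_self hn₀ne h)
    have h2 : t ∈ Q.comap (algebraMap D B) := h1
    rw [hunder Q hQmin] at h2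
    exact ht0 h2
  · have h1 : algebraMap D B t ∈ P := hPp.mem_of_pow_mem _ (hJP (Ideal.pow_le_self hn₀ne h))
    have h2 : t ∈ P.comap (algebraMap D B) := h1
    rw [hunder P hP] at h2
    exact ht0 h2

/-- The version for `H → H'`: a minimal prime `q` of `H'` with `dim H'/q ≤ 1` is the radical of the
extension of its contraction. -/
theorem radical_map_comap_eq
    {H H' : Type u} [CommRing H] [HenselianLocalRing H] [IsNoetherianRing H] [CommRing H']
    [IsLocalRing H'] [IsNoetherianRing H'] [Algebra H H'] [Module.Flat H H']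
    [IsLocalHom (algebraMap H H')]
    (hmax : (maximalIdeal H).map (algebraMap H H') = maximalIdeal H')
    (hres : ∀ b : H', ∃ d : H, b - algebraMap H H' d ∈ maximalIdeal H')
    (q : Ideal H') (hq : q ∈ minimalPrimes H')
    (hdim : ∀ P : Ideal H', P.IsPrime → q ≤ P → P = q ∨ P = maximalIdeal H') :
    ((q.comap (algebraMap H H')).map (algebraMap H H')).radical = q := by
  haveI hqp : q.IsPrime := hq.1.1
  set q' : Ideal H := q.comap (algebraMap H H') with hq'
  haveI : q'.IsPrime := Ideal.comap_isPrime _ _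
  set 𝔞 : Ideal H' := q'.map (algebraMap H H') with h𝔞
  have h𝔞q : 𝔞 ≤ q := Ideal.map_comap_le
  have h𝔞top : 𝔞 ≠ ⊤ := fun h => hqp.ne_top (top_le_iff.mp (h ▸ h𝔞q))
  haveI : Nontrivial (H' ⧸ 𝔞) := Ideal.Quotient.nontrivial_iff.mpr h𝔞top
  haveI : IsLocalRing (H ⧸ q') :=
    IsLocalRing.of_surjective' (Ideal.Quotient.mk q') Ideal.Quotient.mk_surjective
  haveI : IsLocalRing (H' ⧸ 𝔞) :=
    IsLocalRing.of_surjective' (Ideal.Quotient.mk 𝔞) Ideal.Quotient.mk_surjective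
  haveI : HenselianLocalRing (H ⧸ q') := Groth.Agent.S13598.henselian_quotient q'
  haveI : Module.Flat (H ⧸ q') (H' ⧸ 𝔞) := flat_quotient q'
  have halg : ∀ x : H, algebraMap (H ⧸ q') (H' ⧸ 𝔞) (Ideal.Quotient.mk q' x) =
      Ideal.Quotient.mk 𝔞 (algebraMap H H' x) := fun x => rfl
  haveI : IsLocalHom (algebraMap (H ⧸ q') (H' ⧸ 𝔞)) := by
    refine ⟨fun a ha => ?_⟩
    obtain ⟨x, rfl⟩ := Ideal.Quotient.mk_surjective a
    rw [halg] at ha
    have h1 : IsUnit (algebraMap H H' x) := Groth.Agent.S13598.isUnit_of_isUnit_mk 𝔞 _ ha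
    exact (isUnit_of_map_unit (algebraMap H H') x h1).map _
  have hq'top : q' ≠ ⊤ := Ideal.IsPrime.ne_top inferInstance
  have hmaxD : maximalIdeal (H ⧸ q') = (maximalIdeal H).map (Ideal.Quotient.mk q') :=
    maximalIdeal_quotient q' hq'top
  have hmaxB : maximalIdeal (H' ⧸ 𝔞) = (maximalIdeal H').map (Ideal.Quotient.mk 𝔞) :=
    maximalIdeal_quotient 𝔞 h𝔞top
  have hcomp : (algebraMap (H ⧸ q') (H' ⧸ 𝔞)).comp (Ideal.Quotient.mk q') =
      (Ideal.Quotient.mk 𝔞).comp (algebraMap H H') := by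
    ext x; rfl
  have hmax' : (maximalIdeal (H ⧸ q')).map (algebraMap (H ⧸ q') (H' ⧸ 𝔞)) =
      maximalIdeal (H' ⧸ 𝔞) := by
    rw [hmaxD, hmaxB, ← hmax, Ideal.map_map, Ideal.map_map, hcomp]
  have hres' : ∀ b : H' ⧸ 𝔞, ∃ d : H ⧸ q', b - algebraMap (H ⧸ q') (H' ⧸ 𝔞) d ∈
      maximalIdeal (H' ⧸ 𝔞) := by
    intro b
    obtain ⟨b', rfl⟩ := Ideal.Quotient.mk_surjective b
    obtain ⟨d, hd⟩ := hres b'
    refine ⟨Ideal.Quotient.mk q' d, ?_⟩
    rw [halg, ← map_sub, hmaxB]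
    exact Ideal.mem_map_of_mem _ hd
  have hker : RingHom.ker (Ideal.Quotient.mk 𝔞) = 𝔞 := Ideal.mk_ker
  have hback : ∀ P : Ideal H', 𝔞 ≤ P →
      (P.map (Ideal.Quotient.mk 𝔞)).comap (Ideal.Quotient.mk 𝔞) = P := by
    intro P hP
    rw [Ideal.comap_map_of_surjective' _ Ideal.Quotient.mk_surjective, hker]
    exact sup_eq_left.mpr hP
  have hforth : ∀ P : Ideal (H' ⧸ 𝔞),
      (P.comap (Ideal.Quotient.mk 𝔞)).map (Ideal.Quotient.mk 𝔞) = P := fun P =>
    Ideal.map_comap_of_surjective _ Ideal.Quotient.mk_surjective P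
  set Q : Ideal (H' ⧸ 𝔞) := q.map (Ideal.Quotient.mk 𝔞) with hQ
  haveI hQp : Q.IsPrime :=
    Ideal.map_isPrime_of_surjective Ideal.Quotient.mk_surjective (by rw [hker]; exact h𝔞q)
  have hQmin : Q ∈ minimalPrimes (H' ⧸ 𝔞) := by
    refine ⟨⟨hQp, bot_le⟩, ?_⟩
    rintro P' ⟨hP', -⟩ hle
    have h1 : P'.comap (Ideal.Quotient.mk 𝔞) ≤ q := by
      rw [← hback q h𝔞q]; exact Ideal.comap_mono hle
    have h2 : q ≤ P'.comap (Ideal.Quotient.mk 𝔞) :=
      hq.2 ⟨Ideal.comap_isPrime _ _, bot_le⟩ h1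
    rw [← hforth P', hQ]
    exact Ideal.map_mono h2
  have hQdim : ∀ P : Ideal (H' ⧸ 𝔞), P.IsPrime → Q ≤ P → P = Q ∨ P = maximalIdeal (H' ⧸ 𝔞) := by
    intro P hP hle
    have h1 : q ≤ P.comap (Ideal.Quotient.mk 𝔞) := by
      rw [← hback q h𝔞q]; exact Ideal.comap_mono hle
    rcases hdim _ (Ideal.comap_isPrime _ _) h1 with h | h
    · left; rw [← hforth P, h]
    · right; rw [← hforth P, h, hmaxB]
  have hfg : (maximalIdeal (H ⧸ q')).FG := IsNoetherian.noetherian _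
  apply le_antisymm
  · exact (Ideal.IsPrime.radical_le_iff hqp).mpr h𝔞q
  · rw [Ideal.radical_eq_sInf]
    refine le_sInf ?_
    rintro P ⟨h𝔞P, hP⟩
    haveI : (P.map (Ideal.Quotient.mk 𝔞)).IsPrime :=
      Ideal.map_isPrime_of_surjective Ideal.Quotient.mk_surjective (by rw [hker]; exact h𝔞P)
    obtain ⟨P₀, hP₀, hP₀le⟩ := Ideal.exists_minimalPrimes_le
      (bot_le : (⊥ : Ideal (H' ⧸ 𝔞)) ≤ P.map (Ideal.Quotient.mk 𝔞))
    have hP₀Q : P₀ = Q := minimalPrime_unique hfg hmax' hres' Q hQmin hQdim P₀ hP₀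
    rw [hP₀Q] at hP₀le
    rw [← hback q h𝔞q, ← hback P h𝔞P]
    exact Ideal.comap_mono hP₀le

end Groth.Agent.H78.BranchDim1
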