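import Mathlib
import Groth.Prelude.Def_Hensel
import Groth.Agent.H78.BranchDim1.Radical
import Groth.Agent.H78.BranchDim1.Main
import Groth.Agent.S0511

/-!
# S9242: a one-dimensional component of the completion
-/

set_option autoImplicit false
set_option linter.style.haveILetI false
universe u

namespace Groth.Agent.H78.BranchDim1

open IsLocalRing Groth.Agent.H3 Groth.Agent.H78.HensCompl

variable (A S : Type u) [CommRing A] [IsLocalRing A] [IsNoetherianRing A] [CommRing S]
  [IsLocalRing S] [Algebra A S] [IsLocalHom (algebraMap A S)]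

/-- primes over a prime `q` with `dim R/q = 1` in a local ring -/
theorem eq_or_eq_maximalIdeal_of_dim_one {R : Type u} [CommRing R] [IsLocalRing R] (q : Ideal R)
    [q.IsPrime] (hdim : ringKrullDim (R ⧸ q) = 1) (P : Ideal R) (hP : P.IsPrime) (hle : q ≤ P) :
    P = q ∨ P = maximalIdeal R := by
  haveI : Ring.KrullDimLE 1 (R ⧸ q) := Ring.krullDimLE_iff.mpr hdim.le
  have hker : RingHom.ker (Ideal.Quotient.mk q) = q := Ideal.mk_ker
  haveI : (P.map (Ideal.Quotient.mk q)).IsPrime :=
    Ideal.map_isPrime_of_surjective Ideal.Quotient.mk_surjective (by rw [hker]; exact hle)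
  have hback : (P.map (Ideal.Quotient.mk q)).comap (Ideal.Quotient.mk q) = P := by
    rw [Ideal.comap_map_of_surjective' _ Ideal.Quotient.mk_surjective, hker]
    exact sup_eq_left.mpr hle
  by_cases h0 : P.map (Ideal.Quotient.mk q) = ⊥
  · left
    apply le_antisymm _ hle
    rw [← hback, h0, ← RingHom.ker_eq_comap_bot, hker]
  · right
    have hm : (P.map (Ideal.Quotient.mk q)).IsMaximal :=
      Ring.krullDimLE_one_iff_of_noZeroDivisors.mp inferInstance _ h0 inferInstance
    have : P.IsMaximal := by
      rw [← hback]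
      exact Ideal.comap_isMaximal_of_surjective _ Ideal.Quotient.mk_surjective
    exact IsLocalRing.eq_maximalIdeal this

/-- **S9242.** -/
theorem exists_minimalPrime_radical_eq [Hensel.IsHenselization A S]
    (ψ : S →+* AdicCompletion (maximalIdeal A) A)
    (hψ : ψ.comp (algebraMap A S) = algebraMap A (AdicCompletion (maximalIdeal A) A))
    (q : Ideal (AdicCompletion (maximalIdeal A) A))
    (hq : q ∈ minimalPrimes (AdicCompletion (maximalIdeal A) A))
    (hdim : ringKrullDim (AdicCompletion (maximalIdeal A) A ⧸ q) = 1) :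
    ∃ q' ∈ minimalPrimes S, (Ideal.map ψ q').radical = q := by
  have hH : Hensel.IsHenselization A S := inferInstance
  obtain ⟨hmaps, -⟩ := main A S ψ hψ
  obtain ⟨hflat, hloc⟩ := flat_and_isLocalHom A S ψ hψ
  refine ⟨q.comap ψ, hmaps hq, ?_⟩
  letI : Algebra S (AdicCompletion (maximalIdeal A) A) := ψ.toAlgebra
  haveI : Module.Flat S (AdicCompletion (maximalIdeal A) A) := hflat
  haveI : IsLocalHom (algebraMap S (AdicCompletion (maximalIdeal A) A)) := hloc
  haveI : HenselianLocalRing S := hH.henselian
  haveI : IsNoetherianRing S := (Groth.Agent.S0511.result A S).mp inferInstance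
  haveI : IsNoetherianRing (AdicCompletion (maximalIdeal A) A) :=
    Groth.Agent.Lead.RLR.isNoetherianRing_adicCompletion' A (maximalIdeal A)
  have hPS := Groth.Agent.H3.HensIso.isPairHenselization_of_isHenselization hH
  have hmS : maximalIdeal S = (maximalIdeal A).map (algebraMap A S) :=
    Groth.Agent.H3.HensLocal.maximalIdeal_eq hPS
  have hmax : (maximalIdeal S).map (algebraMap S (AdicCompletion (maximalIdeal A) A)) =
      maximalIdeal (AdicCompletion (maximalIdeal A) A) := by
    change (maximalIdeal S).map ψ = _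
    rw [hmS, Ideal.map_map, hψ, ← AdicCompletion.maximalIdeal_eq_map]
  have hres : ∀ b : AdicCompletion (maximalIdeal A) A, ∃ d : S,
      b - algebraMap S (AdicCompletion (maximalIdeal A) A) d ∈
        maximalIdeal (AdicCompletion (maximalIdeal A) A) := by
    intro b
    obtain ⟨a, ha⟩ := exists_sub_mem_maximalIdeal A b
    refine ⟨algebraMap A S a, ?_⟩
    change b - ψ (algebraMap A S a) ∈ _
    have : ψ (algebraMap A S a) = algebraMap A (AdicCompletion (maximalIdeal A) A) a := by
      rw [← hψ]; rfl
    rw [this]
    exact ha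
  haveI := hq.1.1
  exact radical_map_comap_eq (H := S) (H' := AdicCompletion (maximalIdeal A) A) hmax hres q hq
    (fun P hP hle => eq_or_eq_maximalIdeal_of_dim_one q hdim P hP hle)

end Groth.Agent.H78.BranchDim1
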