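import Mathlib
import Groth.Agent.H78.BranchDim1.Disconnect
import Groth.Agent.H78.BranchDim1.Quot

/-!
# Dichotomy for a disconnection of the punctured spectrum of `H'`, prime by prime of `H`
-/

set_option autoImplicit false
set_option linter.style.haveILetI false
universe u

namespace Groth.Agent.H78.BranchDim1

open IsLocalRing

/-- strengthening of `pow_mem_or_pow_mem`: the alternative does not depend on `t` -/
theorem forall_pow_mem_or_forall_pow_mem
    {D B : Type u} [CommRing D] [IsDomain D] [HenselianLocalRing D] [CommRing B] [IsLocalRing B]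
    [Algebra D B] [Module.Flat D B] [IsLocalHom (algebraMap D B)]
    (hfg : (maximalIdeal D).FG)
    (hmax : (maximalIdeal D).map (algebraMap D B) = maximalIdeal B)
    (hres : ∀ b : B, ∃ d : D, b - algebraMap D B d ∈ maximalIdeal B)
    (J₁ J₂ : Ideal B) (hJ : J₁ * J₂ = ⊥) (N : ℕ) (hN : maximalIdeal B ^ N ≤ J₁ ⊔ J₂) :
    (∀ t ∈ maximalIdeal D, t ≠ 0 → algebraMap D B t ^ N ∈ J₁) ∨
      (∀ t ∈ maximalIdeal D, t ≠ 0 → algebraMap D B t ^ N ∈ J₂) := by
  by_contra hcon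
  rw [not_or] at hcon
  obtain ⟨h1, h2⟩ := hcon
  push Not at h1 h2
  obtain ⟨t₁, ht₁, ht₁0, hn₁⟩ := h1
  obtain ⟨t₂, ht₂, ht₂0, hn₂⟩ := h2
  have e₁ : algebraMap D B t₁ ^ N ∈ J₂ :=
    (pow_mem_or_pow_mem hfg hmax hres J₁ J₂ hJ N hN t₁ ht₁ ht₁0).resolve_left hn₁
  have e₂ : algebraMap D B t₂ ^ N ∈ J₁ :=
    (pow_mem_or_pow_mem hfg hmax hres J₁ J₂ hJ N hN t₂ ht₂ ht₂0).resolve_right hn₂
  have hprod : algebraMap D B t₂ ^ N * algebraMap D B t₁ ^ N = 0 := by
    have := Ideal.mul_mem_mul e₂ e₁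
    rwa [hJ, Ideal.mem_bot] at this
  have hreg : IsSMulRegular B (algebraMap D B (t₂ ^ N * t₁ ^ N)) :=
    IsSMulRegular.of_flat ((IsRegular.of_ne_zero
      (mul_ne_zero (pow_ne_zero N ht₂0) (pow_ne_zero N ht₁0))).left.isSMulRegular)
  have h01 : (1 : B) = 0 := by
    apply hreg
    simp only [smul_eq_mul, mul_one, mul_zero, map_mul, map_pow]
    exact hprod
  exact one_ne_zero h01

end Groth.Agent.H78.BranchDim1
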