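import Mathlib
import Groth.Agent.H78.BranchDim1.Dichotomy

/-!
# The dichotomy for `H → H'`, modulo a prime of `H`
-/

set_option autoImplicit false
set_option linter.style.haveILetI false
universe u

namespace Groth.Agent.H78.BranchDim1

open IsLocalRing

/-- `H` henselian Noetherian local, `H'` local, flat over `H` with local structure map, `m_H H' = m_H'`
and trivial residue field extension.  For a prime `q'` of `H` and ideals `J₁ J₂ = 0`,
`m_{H'}^N ≤ J₁ + J₂` of `H'`, one of `J₁ + q'H'`, `J₂ + q'H'` contains all `t^N`, `t ∈ m_H ∖ q'`. -/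
theorem forall_pow_mem_sup_or
    {H H' : Type u} [CommRing H] [HenselianLocalRing H] [IsNoetherianRing H] [CommRing H']
    [IsLocalRing H'] [Algebra H H'] [Module.Flat H H'] [IsLocalHom (algebraMap H H')]
    (hmax : (maximalIdeal H).map (algebraMap H H') = maximalIdeal H')
    (hres : ∀ b : H', ∃ d : H, b - algebraMap H H' d ∈ maximalIdeal H')
    (q' : Ideal H) [q'.IsPrime]
    (J₁ J₂ : Ideal H') (hJ : J₁ * J₂ = ⊥) (N : ℕ) (hN : maximalIdeal H' ^ N ≤ J₁ ⊔ J₂) :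
    (∀ t ∈ maximalIdeal H, t ∉ q' → algebraMap H H' t ^ N ∈ J₁ ⊔ q'.map (algebraMap H H')) ∨
      (∀ t ∈ maximalIdeal H, t ∉ q' → algebraMap H H' t ^ N ∈ J₂ ⊔ q'.map (algebraMap H H')) := by
  set 𝔞 : Ideal H' := q'.map (algebraMap H H') with h𝔞
  have hq'top : q' ≠ ⊤ := Ideal.IsPrime.ne_top inferInstance
  have h𝔞m : 𝔞 ≤ maximalIdeal H' := by
    rw [← hmax]; exact Ideal.map_mono (le_maximalIdeal hq'top)
  have h𝔞top : 𝔞 ≠ ⊤ := fun h => (Ideal.IsPrime.ne_top (inferInstance : (maximalIdeal H').IsPrime))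
    (top_le_iff.mp (h ▸ h𝔞m))
  haveI : Nontrivial (H' ⧸ 𝔞) := Ideal.Quotient.nontrivial_iff.mpr h𝔞top
  haveI : IsLocalRing (H ⧸ q') :=
    IsLocalRing.of_surjective' (Ideal.Quotient.mk q') Ideal.Quotient.mk_surjective
  haveI : IsLocalRing (H' ⧸ 𝔞) :=
    IsLocalRing.of_surjective' (Ideal.Quotient.mk 𝔞) Ideal.Quotient.mk_surjective
  haveI : HenselianLocalRing (H ⧸ q') := Groth.Agent.S13598.henselian_quotient q'
  haveI : Module.Flat (H ⧸ q') (H' ⧸ 𝔞) := flat_quotient q'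
  have halg : ∀ x : H, algebraMap (H ⧸ q') (H' ⧸ 𝔞) (Ideal.Quotient.mk q' x) =
      Ideal.Quotient.mk 𝔞 (algebraMap H H' x) := fun x => rfl
  haveI : IsLocalHom (algebraMap (H ⧸ q') (H' ⧸ 𝔞)) := by
    refine ⟨fun a ha => ?_⟩
    obtain ⟨x, rfl⟩ := Ideal.Quotient.mk_surjective a
    rw [halg] at ha
    have h1 : IsUnit (algebraMap H H' x) := Groth.Agent.S13598.isUnit_of_isUnit_mk 𝔞 _ ha
    exact (isUnit_of_map_unit (algebraMap H H') x h1).map _
  have hmaxD : maximalIdeal (H ⧸ q') = (maximalIdeal H).map (Ideal.Quotient.mk q') :=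
    maximalIdeal_quotient q' hq'top
  have hmaxB : maximalIdeal (H' ⧸ 𝔞) = (maximalIdeal H').map (Ideal.Quotient.mk 𝔞) :=
    maximalIdeal_quotient 𝔞 h𝔞top
  have hcomp : (algebraMap (H ⧸ q') (H' ⧸ 𝔞)).comp (Ideal.Quotient.mk q') =
      (Ideal.Quotient.mk 𝔞).comp (algebraMap H H') := by
    ext x; rfl
  have hmax' : (maximalIdeal (H ⧸ q')).map (algebraMap (H ⧸ q') (H' ⧸ 𝔞)) =
      maximalIdeal (H' ⧸ 𝔞) := by
    rw [hmaxD, hmaxB, ← hmax, Ideal.map_map, Ideal.map_map, hcomp]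
  have hres' : ∀ b : H' ⧸ 𝔞, ∃ d : H ⧸ q', b - algebraMap (H ⧸ q') (H' ⧸ 𝔞) d ∈
      maximalIdeal (H' ⧸ 𝔞) := by
    intro b
    obtain ⟨b', rfl⟩ := Ideal.Quotient.mk_surjective b
    obtain ⟨d, hd⟩ := hres b'
    refine ⟨Ideal.Quotient.mk q' d, ?_⟩
    rw [halg, ← map_sub, hmaxB]
    exact Ideal.mem_map_of_mem _ hd
  have hker : RingHom.ker (Ideal.Quotient.mk 𝔞) = 𝔞 := Ideal.mk_ker
  have hfg : (maximalIdeal (H ⧸ q')).FG := IsNoetherian.noetherian _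
  have hJ' : J₁.map (Ideal.Quotient.mk 𝔞) * J₂.map (Ideal.Quotient.mk 𝔞) = ⊥ := by
    rw [← Ideal.map_mul, hJ, Ideal.map_bot]
  have hN' : maximalIdeal (H' ⧸ 𝔞) ^ N ≤
      J₁.map (Ideal.Quotient.mk 𝔞) ⊔ J₂.map (Ideal.Quotient.mk 𝔞) := by
    rw [hmaxB, ← Ideal.map_pow, ← Ideal.map_sup]
    exact Ideal.map_mono hN
  have hpull : ∀ (J : Ideal H') (t : H),
      algebraMap (H ⧸ q') (H' ⧸ 𝔞) (Ideal.Quotient.mk q' t) ^ N ∈ J.map (Ideal.Quotient.mk 𝔞) →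
      algebraMap H H' t ^ N ∈ J ⊔ 𝔞 := by
    intro J t ht
    rw [halg, ← map_pow] at ht
    have h1 : algebraMap H H' t ^ N ∈ (J.map (Ideal.Quotient.mk 𝔞)).comap (Ideal.Quotient.mk 𝔞) :=
      ht
    rwa [Ideal.comap_map_of_surjective' _ Ideal.Quotient.mk_surjective, hker] at h1
  have hmem : ∀ t ∈ maximalIdeal H, t ∉ q' →
      Ideal.Quotient.mk q' t ∈ maximalIdeal (H ⧸ q') ∧ Ideal.Quotient.mk q' t ≠ 0 := by
    intro t ht htq
    refine ⟨?_, ?_⟩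
    · rw [hmaxD]; exact Ideal.mem_map_of_mem _ ht
    · rw [Ne, Ideal.Quotient.eq_zero_iff_mem]; exact htq
  rcases forall_pow_mem_or_forall_pow_mem hfg hmax' hres' _ _ hJ' N hN' with h | h
  · left
    intro t ht htq
    exact hpull J₁ t (h _ (hmem t ht htq).1 (hmem t ht htq).2)
  · right
    intro t ht htq
    exact hpull J₂ t (h _ (hmem t ht htq).1 (hmem t ht htq).2)

end Groth.Agent.H78.BranchDim1
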