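import Mathlib
import Groth.Agent.H78.BranchDim1.Dichotomy2

/-!
# Connectedness of the punctured spectrum: `H → H'`
-/

set_option autoImplicit false
set_option linter.style.haveILetI false
universe u

namespace Groth.Agent.H78.BranchDim1

open IsLocalRing PrimeSpectrum

section down

variable {H H' : Type u} [CommRing H] [IsLocalRing H] [CommRing H'] [IsLocalRing H']
  [Algebra H H'] [Module.Flat H H'] [IsLocalHom (algebraMap H H')]

omit [Module.Flat H H'] [IsLocalHom (algebraMap H H')] in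
/-- a prime of `H'` different from the maximal ideal contracts to a prime different from the
maximal ideal, as soon as `m_H H' = m_H'` -/
theorem comap_ne_maximalIdeal
    (hmax : (maximalIdeal H).map (algebraMap H H') = maximalIdeal H')
    (P : Ideal H') [hP : P.IsPrime] (hPm : P ≠ maximalIdeal H') :
    P.comap (algebraMap H H') ≠ maximalIdeal H := by
  intro h
  apply hPm
  have h1 : maximalIdeal H' ≤ P := by
    rw [← hmax, Ideal.map_le_iff_le_comap, h]
  exact ((IsLocalRing.maximalIdeal.isMaximal H').eq_of_le hP.ne_top h1).symm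

/-- the punctured spectrum of `H` is the image of the punctured spectrum of `H'` -/
theorem image_comap_punctured
    (hmax : (maximalIdeal H).map (algebraMap H H') = maximalIdeal H') :
    PrimeSpectrum.comap (algebraMap H H') '' ({closedPoint H'}ᶜ : Set (PrimeSpectrum H')) =
      ({closedPoint H}ᶜ : Set (PrimeSpectrum H)) := by
  haveI : Module.FaithfullyFlat H H' := Module.FaithfullyFlat.of_flat_of_isLocalHom
  ext p
  constructor
  · rintro ⟨P, hP, rfl⟩
    rw [Set.mem_compl_iff, Set.mem_singleton_iff] at hP ⊢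
    intro h
    haveI := P.2
    have h1 : P.asIdeal ≠ maximalIdeal H' := fun h2 => hP (PrimeSpectrum.ext h2)
    exact comap_ne_maximalIdeal hmax P.asIdeal h1 (congrArg PrimeSpectrum.asIdeal h)
  · intro hp
    rw [Set.mem_compl_iff, Set.mem_singleton_iff] at hp
    haveI := p.2
    obtain ⟨P, hP, hPp⟩ := Ideal.exists_isPrime_liesOver_of_faithfullyFlat (B := H') p.asIdeal
    refine ⟨⟨P, hP⟩, ?_, ?_⟩
    · rw [Set.mem_compl_iff, Set.mem_singleton_iff]
      intro h
      apply hp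
      rw [← comap_closedPoint (algebraMap H H'), ← h]
      exact PrimeSpectrum.ext hPp.over
    · exact PrimeSpectrum.ext hPp.over.symm

theorem isPreconnected_punctured_down
    (hmax : (maximalIdeal H).map (algebraMap H H') = maximalIdeal H')
    (hconn : IsPreconnected ({closedPoint H'}ᶜ : Set (PrimeSpectrum H'))) :
    IsPreconnected ({closedPoint H}ᶜ : Set (PrimeSpectrum H)) := by
  rw [← image_comap_punctured hmax]
  exact hconn.image _ (PrimeSpectrum.continuous_comap _).continuousOn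

end down

section up

variable {H H' : Type u} [CommRing H] [HenselianLocalRing H] [IsNoetherianRing H] [CommRing H']
  [IsLocalRing H'] [IsNoetherianRing H'] [Algebra H H'] [Module.Flat H H']
  [IsLocalHom (algebraMap H H')]

theorem isPreconnected_punctured_up
    (hmax : (maximalIdeal H).map (algebraMap H H') = maximalIdeal H')
    (hres : ∀ b : H', ∃ d : H, b - algebraMap H H' d ∈ maximalIdeal H')
    (hconn : IsPreconnected ({closedPoint H}ᶜ : Set (PrimeSpectrum H))) :
    IsPreconnected ({closedPoint H'}ᶜ : Set (PrimeSpectrum H')) := by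
  classical
  haveI : Module.FaithfullyFlat H H' := Module.FaithfullyFlat.of_flat_of_isLocalHom
  rw [isPreconnected_closed_iff]
  intro t t' ht ht' hcov hne hne'
  obtain ⟨J₁, rfl⟩ := (PrimeSpectrum.isClosed_iff_zeroLocus_ideal t).mp ht
  obtain ⟨J₂, rfl⟩ := (PrimeSpectrum.isClosed_iff_zeroLocus_ideal t').mp ht'
  by_contra hcon
  rw [Set.not_nonempty_iff_eq_empty] at hcon
  have hboth : ∀ P : Ideal H', P.IsPrime → J₁ ≤ P → J₂ ≤ P → P = maximalIdeal H' := by
    intro P hP h1 h2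
    by_contra hPm
    have hmem : (⟨P, hP⟩ : PrimeSpectrum H') ∈
        ({closedPoint H'}ᶜ : Set (PrimeSpectrum H')) ∩ (zeroLocus J₁ ∩ zeroLocus J₂) := by
      refine ⟨?_, ?_, ?_⟩
      · rw [Set.mem_compl_iff, Set.mem_singleton_iff]
        intro h
        exact hPm (congrArg PrimeSpectrum.asIdeal h)
      · rw [PrimeSpectrum.mem_zeroLocus]; exact h1
      · rw [PrimeSpectrum.mem_zeroLocus]; exact h2
    rw [hcon] at hmem
    exact hmem
  have hone : ∀ P : Ideal H', P.IsPrime → P ≠ maximalIdeal H' → J₁ ≤ P ∨ J₂ ≤ P := by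
    intro P hP hPm
    have hmem : (⟨P, hP⟩ : PrimeSpectrum H') ∈ ({closedPoint H'}ᶜ : Set (PrimeSpectrum H')) := by
      rw [Set.mem_compl_iff, Set.mem_singleton_iff]
      intro h
      exact hPm (congrArg PrimeSpectrum.asIdeal h)
    rcases hcov hmem with h | h
    · left; rw [PrimeSpectrum.mem_zeroLocus] at h; exact h
    · right; rw [PrimeSpectrum.mem_zeroLocus] at h; exact h
  obtain ⟨P₁, hP₁U, hP₁⟩ := hne
  obtain ⟨P₂, hP₂U, hP₂⟩ := hne'
  rw [PrimeSpectrum.mem_zeroLocus] at hP₁ hP₂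
  rw [Set.mem_compl_iff, Set.mem_singleton_iff] at hP₁U hP₂U
  have hP₁m : P₁.asIdeal ≠ maximalIdeal H' := fun h => hP₁U (PrimeSpectrum.ext h)
  have hP₂m : P₂.asIdeal ≠ maximalIdeal H' := fun h => hP₂U (PrimeSpectrum.ext h)
  have hJ₁m : J₁ ≤ maximalIdeal H' := hP₁.trans (le_maximalIdeal P₁.2.ne_top)
  have hJ₂m : J₂ ≤ maximalIdeal H' := hP₂.trans (le_maximalIdeal P₂.2.ne_top)
  -- the product is nilpotent
  have hnil : J₁ * J₂ ≤ nilradical H' := by
    rw [nilradical_eq_sInf]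
    refine le_sInf ?_
    intro P hP
    by_cases hPm : P = maximalIdeal H'
    · rw [hPm]; exact (Ideal.mul_le_inf.trans inf_le_left).trans hJ₁m
    · rcases hone P hP hPm with h | h
      · exact (Ideal.mul_le_inf.trans inf_le_left).trans h
      · exact (Ideal.mul_le_inf.trans inf_le_right).trans h
  obtain ⟨n₀, hn₀⟩ := IsNoetherianRing.isNilpotent_nilradical H'
  have hn₀ne : n₀ ≠ 0 := by
    intro h
    rw [h, pow_zero, Ideal.one_eq_top] at hn₀
    exact (top_ne_bot (α := Ideal H')) hn₀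
  have hJ12 : J₁ ^ n₀ * J₂ ^ n₀ = ⊥ := by
    rw [← mul_pow, eq_bot_iff, ← Ideal.zero_eq_bot, ← hn₀]
    exact Ideal.pow_right_mono hnil n₀
  have hrad : (J₁ ^ n₀ ⊔ J₂ ^ n₀).radical = maximalIdeal H' := by
    rw [Ideal.radical_eq_sInf]
    apply le_antisymm
    · refine sInf_le ⟨?_, inferInstance⟩
      exact sup_le ((Ideal.pow_le_self hn₀ne).trans hJ₁m) ((Ideal.pow_le_self hn₀ne).trans hJ₂m)
    · refine le_sInf ?_
      rintro P' ⟨hle, hP'⟩
      have h1 : J₁ ≤ P' := hP'.le_of_pow_le (le_sup_left.trans hle)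
      have h2 : J₂ ≤ P' := hP'.le_of_pow_le (le_sup_right.trans hle)
      rw [hboth P' hP' h1 h2]
  obtain ⟨N, hN⟩ := Ideal.exists_radical_pow_le_of_fg (J₁ ^ n₀ ⊔ J₂ ^ n₀)
    (IsNoetherian.noetherian _)
  rw [hrad] at hN
  -- the two types of minimal primes of `H`
  let PA : Ideal H → Prop := fun q' => ∀ P : Ideal H', P.IsPrime →
    q'.map (algebraMap H H') ≤ P → P ≠ maximalIdeal H' → J₂ ≤ P
  let PB : Ideal H → Prop := fun q' => ∀ P : Ideal H', P.IsPrime →
    q'.map (algebraMap H H') ≤ P → P ≠ maximalIdeal H' → J₁ ≤ P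
  have hexists_t : ∀ P : Ideal H', P.IsPrime → P ≠ maximalIdeal H' →
      ∃ t ∈ maximalIdeal H, algebraMap H H' t ∉ P := by
    intro P hP hPm
    by_contra hcon'
    push Not at hcon'
    have h1 : maximalIdeal H ≤ P.comap (algebraMap H H') := fun t ht => hcon' t ht
    have h2 : maximalIdeal H' ≤ P := by
      rw [← hmax, Ideal.map_le_iff_le_comap]; exact h1
    exact hPm ((IsLocalRing.maximalIdeal.isMaximal H').eq_of_le hP.ne_top h2).symm
  have hkey : ∀ (q' : Ideal H) (K K' : Ideal H'), K' ^ n₀ ≤ K' →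
      (∀ P : Ideal H', P.IsPrime → P ≠ maximalIdeal H' → K' ≤ P ∨ K ≤ P) →
      (∀ t ∈ maximalIdeal H, t ∉ q' →
        algebraMap H H' t ^ N ∈ K' ^ n₀ ⊔ q'.map (algebraMap H H')) →
      ∀ P : Ideal H', P.IsPrime → q'.map (algebraMap H H') ≤ P → P ≠ maximalIdeal H' → K ≤ P := by
    intro q' K K' hK' hor h P hP hqP hPm
    rcases hor P hP hPm with h1 | h2
    · exfalso
      obtain ⟨t, ht, htP⟩ := hexists_t P hP hPm
      have htq : t ∉ q' := fun htq => htP (hqP (Ideal.mem_map_of_mem _ htq))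
      have h3 : algebraMap H H' t ^ N ∈ P := (sup_le (hK'.trans h1) hqP) (h t ht htq)
      exact htP (hP.mem_of_pow_mem _ h3)
    · exact h2
  have hAB : ∀ q' : Ideal H, q'.IsPrime → PA q' ∨ PB q' := by
    intro q' hq'
    rcases forall_pow_mem_sup_or hmax hres q' (J₁ ^ n₀) (J₂ ^ n₀) hJ12 N hN with h | h
    · left
      exact hkey q' J₂ J₁ (Ideal.pow_le_self hn₀ne) (fun P hP hPm => hone P hP hPm) h
    · right
      exact hkey q' J₁ J₂ (Ideal.pow_le_self hn₀ne) (fun P hP hPm => (hone P hP hPm).symm) h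
  have hfin : (minimalPrimes H).Finite := minimalPrimes.finite_of_isNoetherianRing (R := H)
  set ZA : Set (PrimeSpectrum H) := ⋃ q' ∈ {q' ∈ minimalPrimes H | PA q'},
    zeroLocus (q' : Set H) with hZA
  set ZB : Set (PrimeSpectrum H) := ⋃ q' ∈ {q' ∈ minimalPrimes H | PB q'},
    zeroLocus (q' : Set H) with hZB
  have hZAc : IsClosed ZA :=
    Set.Finite.isClosed_biUnion (hfin.subset (Set.sep_subset _ _))
      (fun q' _ => PrimeSpectrum.isClosed_zeroLocus _)
  have hZBc : IsClosed ZB :=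
    Set.Finite.isClosed_biUnion (hfin.subset (Set.sep_subset _ _))
      (fun q' _ => PrimeSpectrum.isClosed_zeroLocus _)
  have hcov' : ({closedPoint H}ᶜ : Set (PrimeSpectrum H)) ⊆ ZA ∪ ZB := by
    intro p _
    obtain ⟨q', hq', hq'le⟩ := Ideal.exists_minimalPrimes_le (bot_le : (⊥ : Ideal H) ≤ p.asIdeal)
    rcases hAB q' hq'.1.1 with h | h
    · left
      exact Set.mem_iUnion₂.mpr ⟨q', ⟨hq', h⟩, (PrimeSpectrum.mem_zeroLocus _ _).mpr hq'le⟩
    · right
      exact Set.mem_iUnion₂.mpr ⟨q', ⟨hq', h⟩, (PrimeSpectrum.mem_zeroLocus _ _).mpr hq'le⟩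
  -- witnesses
  have hwit : ∀ (P : PrimeSpectrum H'), P.asIdeal ≠ maximalIdeal H' →
      PrimeSpectrum.comap (algebraMap H H') P ∈ ({closedPoint H}ᶜ : Set (PrimeSpectrum H)) := by
    intro P hPm
    rw [Set.mem_compl_iff, Set.mem_singleton_iff]
    intro h
    haveI := P.2
    exact comap_ne_maximalIdeal hmax P.asIdeal hPm (congrArg PrimeSpectrum.asIdeal h)
  have hneA : (({closedPoint H}ᶜ : Set (PrimeSpectrum H)) ∩ ZA).Nonempty := by
    refine ⟨PrimeSpectrum.comap (algebraMap H H') P₂, hwit P₂ hP₂m, ?_⟩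
    obtain ⟨q', hq', hq'le⟩ := Ideal.exists_minimalPrimes_le
      (bot_le : (⊥ : Ideal H) ≤ (PrimeSpectrum.comap (algebraMap H H') P₂).asIdeal)
    have hqP : q'.map (algebraMap H H') ≤ P₂.asIdeal := Ideal.map_le_iff_le_comap.mpr hq'le
    have hA : PA q' := by
      rcases hAB q' hq'.1.1 with h | h
      · exact h
      · exact absurd (hboth P₂.asIdeal P₂.2 (h P₂.asIdeal P₂.2 hqP hP₂m) hP₂) hP₂m
    exact Set.mem_iUnion₂.mpr ⟨q', ⟨hq', hA⟩, (PrimeSpectrum.mem_zeroLocus _ _).mpr hq'le⟩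
  have hneB : (({closedPoint H}ᶜ : Set (PrimeSpectrum H)) ∩ ZB).Nonempty := by
    refine ⟨PrimeSpectrum.comap (algebraMap H H') P₁, hwit P₁ hP₁m, ?_⟩
    obtain ⟨q', hq', hq'le⟩ := Ideal.exists_minimalPrimes_le
      (bot_le : (⊥ : Ideal H) ≤ (PrimeSpectrum.comap (algebraMap H H') P₁).asIdeal)
    have hqP : q'.map (algebraMap H H') ≤ P₁.asIdeal := Ideal.map_le_iff_le_comap.mpr hq'le
    have hB : PB q' := by
      rcases hAB q' hq'.1.1 with h | h
      · exact absurd (hboth P₁.asIdeal P₁.2 hP₁ (h P₁.asIdeal P₁.2 hqP hP₁m)) hP₁m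
      · exact h
    exact Set.mem_iUnion₂.mpr ⟨q', ⟨hq', hB⟩, (PrimeSpectrum.mem_zeroLocus _ _).mpr hq'le⟩
  obtain ⟨p, hpU, hpA, hpB⟩ :=
    isPreconnected_closed_iff.mp hconn ZA ZB hZAc hZBc hcov' hneA hneB
  obtain ⟨qA, ⟨hqA, hPA⟩, hqAle⟩ := Set.mem_iUnion₂.mp hpA
  obtain ⟨qB, ⟨hqB, hPB⟩, hqBle⟩ := Set.mem_iUnion₂.mp hpB
  rw [PrimeSpectrum.mem_zeroLocus] at hqAle hqBle
  haveI := p.2
  obtain ⟨P, hP, hPp⟩ := Ideal.exists_isPrime_liesOver_of_faithfullyFlat (B := H') p.asIdeal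
  have hover : p.asIdeal = P.comap (algebraMap H H') := hPp.over
  have hPm : P ≠ maximalIdeal H' := by
    intro h
    rw [Set.mem_compl_iff, Set.mem_singleton_iff] at hpU
    apply hpU
    apply PrimeSpectrum.ext
    rw [hover, h]
    exact ((IsLocalRing.local_hom_TFAE (algebraMap H H')).out 0 4).mp
      (inferInstance : IsLocalHom (algebraMap H H'))
  have hqAP : qA.map (algebraMap H H') ≤ P :=
    Ideal.map_le_iff_le_comap.mpr (hqAle.trans hover.le)
  have hqBP : qB.map (algebraMap H H') ≤ P :=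
    Ideal.map_le_iff_le_comap.mpr (hqBle.trans hover.le)
  exact hPm (hboth P hP (hPB P hP hqBP hPm) (hPA P hP hqAP hPm))

end up

end Groth.Agent.H78.BranchDim1
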