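import Mathlib
import Groth.Agent.H78.BranchDim1.Quot

/-!
# The hypotheses on `H → H'` pass to `H/I → H'/IH'`
-/

set_option autoImplicit false
set_option linter.style.haveILetI false
universe u

namespace Groth.Agent.H78.BranchDim1

open IsLocalRing

variable {H H' : Type u} [CommRing H] [HenselianLocalRing H] [CommRing H'] [IsLocalRing H']
  [Algebra H H'] [Module.Flat H H'] [IsLocalHom (algebraMap H H')]

omit [Module.Flat H H'] [IsLocalHom (algebraMap H H')] in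
theorem map_ne_top (hmax : (maximalIdeal H).map (algebraMap H H') = maximalIdeal H')
    (I : Ideal H) (hI : I ≠ ⊤) : I.map (algebraMap H H') ≠ ⊤ := by
  have h𝔞m : I.map (algebraMap H H') ≤ maximalIdeal H' := by
    rw [← hmax]; exact Ideal.map_mono (le_maximalIdeal hI)
  exact fun h => (Ideal.IsPrime.ne_top (inferInstance : (maximalIdeal H').IsPrime))
    (top_le_iff.mp (h ▸ h𝔞m))

/-- all the standing hypotheses on `H → H'` hold for `H/I → H'/IH'` -/
theorem quotient_package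
    (hmax : (maximalIdeal H).map (algebraMap H H') = maximalIdeal H')
    (hres : ∀ b : H', ∃ d : H, b - algebraMap H H' d ∈ maximalIdeal H')
    (I : Ideal H) (hI : I ≠ ⊤) :
    ∃ (_ : HenselianLocalRing (H ⧸ I)) (_ : IsLocalRing (H' ⧸ I.map (algebraMap H H'))),
      Module.Flat (H ⧸ I) (H' ⧸ I.map (algebraMap H H')) ∧
      IsLocalHom (algebraMap (H ⧸ I) (H' ⧸ I.map (algebraMap H H'))) ∧
      (maximalIdeal (H ⧸ I)).map (algebraMap (H ⧸ I) (H' ⧸ I.map (algebraMap H H'))) =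
        maximalIdeal (H' ⧸ I.map (algebraMap H H')) ∧
      (∀ b : H' ⧸ I.map (algebraMap H H'), ∃ d : H ⧸ I,
        b - algebraMap (H ⧸ I) (H' ⧸ I.map (algebraMap H H')) d ∈
          maximalIdeal (H' ⧸ I.map (algebraMap H H'))) := by
  set 𝔞 : Ideal H' := I.map (algebraMap H H') with h𝔞
  have h𝔞top : 𝔞 ≠ ⊤ := map_ne_top hmax I hI
  haveI : Nontrivial (H ⧸ I) := Ideal.Quotient.nontrivial_iff.mpr hI
  haveI : Nontrivial (H' ⧸ 𝔞) := Ideal.Quotient.nontrivial_iff.mpr h𝔞top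
  haveI hl1 : IsLocalRing (H ⧸ I) :=
    IsLocalRing.of_surjective' (Ideal.Quotient.mk I) Ideal.Quotient.mk_surjective
  haveI hl2 : IsLocalRing (H' ⧸ 𝔞) :=
    IsLocalRing.of_surjective' (Ideal.Quotient.mk 𝔞) Ideal.Quotient.mk_surjective
  have hh : HenselianLocalRing (H ⧸ I) := Groth.Agent.S13598.henselian_quotient I
  have hflat : Module.Flat (H ⧸ I) (H' ⧸ 𝔞) := flat_quotient I
  have halg : ∀ x : H, algebraMap (H ⧸ I) (H' ⧸ 𝔞) (Ideal.Quotient.mk I x) =
      Ideal.Quotient.mk 𝔞 (algebraMap H H' x) := fun x => rfl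
  have hloc : IsLocalHom (algebraMap (H ⧸ I) (H' ⧸ 𝔞)) := by
    refine ⟨fun a ha => ?_⟩
    obtain ⟨x, rfl⟩ := Ideal.Quotient.mk_surjective a
    rw [halg] at ha
    have h1 : IsUnit (algebraMap H H' x) := Groth.Agent.S13598.isUnit_of_isUnit_mk 𝔞 _ ha
    exact (isUnit_of_map_unit (algebraMap H H') x h1).map _
  have hmaxD : maximalIdeal (H ⧸ I) = (maximalIdeal H).map (Ideal.Quotient.mk I) :=
    maximalIdeal_quotient I hI
  have hmaxB : maximalIdeal (H' ⧸ 𝔞) = (maximalIdeal H').map (Ideal.Quotient.mk 𝔞) :=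
    maximalIdeal_quotient 𝔞 h𝔞top
  have hcomp : (algebraMap (H ⧸ I) (H' ⧸ 𝔞)).comp (Ideal.Quotient.mk I) =
      (Ideal.Quotient.mk 𝔞).comp (algebraMap H H') := by
    ext x; rfl
  have hmax' : (maximalIdeal (H ⧸ I)).map (algebraMap (H ⧸ I) (H' ⧸ 𝔞)) =
      maximalIdeal (H' ⧸ 𝔞) := by
    rw [hmaxD, hmaxB, ← hmax, Ideal.map_map, Ideal.map_map, hcomp]
  have hres' : ∀ b : H' ⧸ 𝔞, ∃ d : H ⧸ I, b - algebraMap (H ⧸ I) (H' ⧸ 𝔞) d ∈
      maximalIdeal (H' ⧸ 𝔞) := by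
    intro b
    obtain ⟨b', rfl⟩ := Ideal.Quotient.mk_surjective b
    obtain ⟨d, hd⟩ := hres b'
    refine ⟨Ideal.Quotient.mk I d, ?_⟩
    rw [halg, ← map_sub, hmaxB]
    exact Ideal.mem_map_of_mem _ hd
  refine ⟨hh, hl2, hflat, ?_, ?_, ?_⟩
  · exact hloc
  · convert hmax'
  · convert hres'

end Groth.Agent.H78.BranchDim1
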