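import Mathlib
import Groth.Agent.H78.BranchDim1.Radical
import Groth.Agent.H78.BranchDim1.QuotPkg

/-!
# A prime of coheight one of `H'`, minimal over the extension of its contraction `P`, is the radical
of `P H'`
-/

set_option autoImplicit false
set_option linter.style.haveILetI false
universe u

namespace Groth.Agent.H78.BranchDim1

open IsLocalRing

theorem le_of_map_under_le
    {H H' : Type u} [CommRing H] [HenselianLocalRing H] [IsNoetherianRing H] [CommRing H']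
    [IsLocalRing H'] [IsNoetherianRing H'] [Algebra H H'] [Module.Flat H H']
    [IsLocalHom (algebraMap H H')]
    (hmax : (maximalIdeal H).map (algebraMap H H') = maximalIdeal H')
    (hres : ∀ b : H', ∃ d : H, b - algebraMap H H' d ∈ maximalIdeal H')
    (Q : Ideal H') [hQp : Q.IsPrime]
    (hQ : Q ∈ ((Q.under H).map (algebraMap H H')).minimalPrimes)
    (hdim : ∀ P : Ideal H', P.IsPrime → Q ≤ P → P = Q ∨ P = maximalIdeal H')
    (Q' : Ideal H') [hQ'p : Q'.IsPrime] (hQ' : (Q.under H).map (algebraMap H H') ≤ Q') :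
    Q ≤ Q' := by
  set P : Ideal H := Q.under H with hP
  haveI : P.IsPrime := Ideal.comap_isPrime _ _
  have hPtop : P ≠ ⊤ := Ideal.IsPrime.ne_top inferInstance
  set 𝔞 : Ideal H' := P.map (algebraMap H H') with h𝔞
  obtain ⟨hh, hl, hflat, hloc, hmax', hres'⟩ := quotient_package hmax hres P hPtop
  have h𝔞Q : 𝔞 ≤ Q := hQ.1.2
  have hker : RingHom.ker (Ideal.Quotient.mk 𝔞) = 𝔞 := Ideal.mk_ker
  have hback : ∀ J : Ideal H', 𝔞 ≤ J →
      (J.map (Ideal.Quotient.mk 𝔞)).comap (Ideal.Quotient.mk 𝔞) = J := by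
    intro J hJ
    rw [Ideal.comap_map_of_surjective' _ Ideal.Quotient.mk_surjective, hker]
    exact sup_eq_left.mpr hJ
  have hforth : ∀ J : Ideal (H' ⧸ 𝔞),
      (J.comap (Ideal.Quotient.mk 𝔞)).map (Ideal.Quotient.mk 𝔞) = J := fun J =>
    Ideal.map_comap_of_surjective _ Ideal.Quotient.mk_surjective J
  have h𝔞top : 𝔞 ≠ ⊤ := map_ne_top hmax P hPtop
  have hmaxB : maximalIdeal (H' ⧸ 𝔞) = (maximalIdeal H').map (Ideal.Quotient.mk 𝔞) :=
    maximalIdeal_quotient 𝔞 h𝔞top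
  set Qb : Ideal (H' ⧸ 𝔞) := Q.map (Ideal.Quotient.mk 𝔞) with hQb
  haveI hQbp : Qb.IsPrime :=
    Ideal.map_isPrime_of_surjective Ideal.Quotient.mk_surjective (by rw [hker]; exact h𝔞Q)
  have hQmin : Qb ∈ minimalPrimes (H' ⧸ 𝔞) := by
    refine ⟨⟨hQbp, bot_le⟩, ?_⟩
    rintro P' ⟨hP', -⟩ hle
    have h1 : P'.comap (Ideal.Quotient.mk 𝔞) ≤ Q := by
      rw [← hback Q h𝔞Q]; exact Ideal.comap_mono hle
    have h0 : 𝔞 ≤ P'.comap (Ideal.Quotient.mk 𝔞) := by
      intro x hx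
      rw [Ideal.mem_comap, Ideal.Quotient.eq_zero_iff_mem.mpr hx]
      exact P'.zero_mem
    have h2 : Q ≤ P'.comap (Ideal.Quotient.mk 𝔞) :=
      hQ.2 ⟨Ideal.comap_isPrime _ _, h0⟩ h1
    rw [← hforth P', hQb]
    exact Ideal.map_mono h2
  have hQdim : ∀ P' : Ideal (H' ⧸ 𝔞), P'.IsPrime → Qb ≤ P' →
      P' = Qb ∨ P' = maximalIdeal (H' ⧸ 𝔞) := by
    intro P' hP' hle
    have h1 : Q ≤ P'.comap (Ideal.Quotient.mk 𝔞) := by
      rw [← hback Q h𝔞Q]; exact Ideal.comap_mono hle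
    rcases hdim _ (Ideal.comap_isPrime _ _) h1 with h | h
    · left; rw [← hforth P', h]
    · right; rw [← hforth P', h, hmaxB]
  have hfg : (maximalIdeal (H ⧸ P)).FG := IsNoetherian.noetherian _
  haveI : (Q'.map (Ideal.Quotient.mk 𝔞)).IsPrime :=
    Ideal.map_isPrime_of_surjective Ideal.Quotient.mk_surjective (by rw [hker]; exact hQ')
  obtain ⟨P₀, hP₀, hP₀le⟩ := Ideal.exists_minimalPrimes_le
    (bot_le : (⊥ : Ideal (H' ⧸ 𝔞)) ≤ Q'.map (Ideal.Quotient.mk 𝔞))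
  have hP₀Q : P₀ = Qb := minimalPrime_unique hfg hmax' hres' Qb hQmin hQdim P₀ hP₀
  rw [hP₀Q] at hP₀le
  rw [← hback Q h𝔞Q, ← hback Q' hQ']
  exact Ideal.comap_mono hP₀le

end Groth.Agent.H78.BranchDim1
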