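import Mathlib
import Groth.Agent.H78.BranchDim1.Radical2
import Groth.Agent.H78.BranchDim1.DimOne
import Groth.Agent.H78.BranchDim1.Main2
import Groth.Agent.H78.BranchDim1.Punctured
import Groth.Agent.H20.EtaleStalk

/-!
# Components of coheight one of `V(I)` and of `V(I H')`
-/

set_option autoImplicit false
set_option linter.style.haveILetI false
universe u

namespace Groth.Agent.H78.BranchDim1

open IsLocalRing

variable {H H' : Type u} [CommRing H] [HenselianLocalRing H] [IsNoetherianRing H] [CommRing H']
  [IsLocalRing H'] [IsNoetherianRing H'] [Algebra H H'] [Module.Flat H H']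
  [IsLocalHom (algebraMap H H')]

theorem exists_minimalPrimes_dim_one_iff
    (hmax : (maximalIdeal H).map (algebraMap H H') = maximalIdeal H')
    (hres : ∀ b : H', ∃ d : H, b - algebraMap H H' d ∈ maximalIdeal H')
    (I : Ideal H) :
    (∃ P ∈ I.minimalPrimes, ringKrullDim (H ⧸ P) = 1) ↔
      (∃ Q ∈ (I.map (algebraMap H H')).minimalPrimes, ringKrullDim (H' ⧸ Q) = 1) := by
  haveI : Module.FaithfullyFlat H H' := Module.FaithfullyFlat.of_flat_of_isLocalHom
  constructor
  · rintro ⟨P, hP, hdim⟩
    haveI : P.IsPrime := hP.1.1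
    have hPm : P ≠ maximalIdeal H := ne_maximalIdeal_of_dim_one P hdim
    have hPtop : P ≠ ⊤ := Ideal.IsPrime.ne_top inferInstance
    obtain ⟨⟨Q, hQ⟩⟩ := Ideal.nonempty_minimalPrimes (map_ne_top hmax P hPtop)
    haveI : Q.IsPrime := hQ.1.1
    refine ⟨Q, mem_minimalPrimes_map_of_mem_minimalPrimes_map I hP hQ, ?_⟩
    have hQP : Q.under H = P := under_eq_of_mem_minimalPrimes_map P hQ
    have hQm : Q ≠ maximalIdeal H' := by
      intro h
      apply hPm
      rw [← hQP, h]
      exact ((IsLocalRing.local_hom_TFAE (algebraMap H H')).out 0 4).mp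
        (inferInstance : IsLocalHom (algebraMap H H'))
    refine le_antisymm ?_ (one_le_ringKrullDim_quotient Q hQm)
    obtain ⟨hh, hl, hflat, hloc, hmax', hres'⟩ := quotient_package hmax hres P hPtop
    have h1 : ringKrullDim (H' ⧸ P.map (algebraMap H H')) = ringKrullDim (H ⧸ P) :=
      Groth.Agent.H20.ringKrullDim_eq_of_flat_of_map_maximalIdeal hmax'
    have h2 : ringKrullDim (H' ⧸ Q) ≤ ringKrullDim (H' ⧸ P.map (algebraMap H H')) :=
      ringKrullDim_le_of_surjective (Ideal.Quotient.factor hQ.1.2)
        (Ideal.Quotient.factor_surjective hQ.1.2)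
    rw [h1, hdim] at h2
    exact h2
  · rintro ⟨Q, hQ, hdim⟩
    haveI : Q.IsPrime := hQ.1.1
    have hQm : Q ≠ maximalIdeal H' := ne_maximalIdeal_of_dim_one Q hdim
    refine ⟨Q.under H, under_mem_minimalPrimes_of_map I hQ, ?_⟩
    have hQ2 := mem_minimalPrimes_map_under I hQ
    have hPm : Q.under H ≠ maximalIdeal H := comap_ne_maximalIdeal hmax Q hQm
    refine ringKrullDim_quotient_eq_one_of (Q.under H) hPm ?_
    intro P' hP' hle
    by_cases hP'm : P' = maximalIdeal H
    · right; exact hP'm
    · left
      haveI := hP'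
      obtain ⟨Q', hQ'p, hQ'o⟩ := Ideal.exists_isPrime_liesOver_of_faithfullyFlat (B := H') P'
      have hover : P' = Q'.under H := hQ'o.over
      have hQ'm : Q' ≠ maximalIdeal H' := by
        intro h
        apply hP'm
        rw [hover, h]
        exact ((IsLocalRing.local_hom_TFAE (algebraMap H H')).out 0 4).mp
          (inferInstance : IsLocalHom (algebraMap H H'))
      have h1 : (Q.under H).map (algebraMap H H') ≤ Q' := by
        rw [Ideal.map_le_iff_le_comap]
        exact hle.trans hover.le
      have h2 : Q ≤ Q' := le_of_map_under_le hmax hres Q hQ2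
        (fun P hP hle => eq_or_eq_maximalIdeal_of_dim_one Q hdim P hP hle) Q' h1
      rcases eq_or_eq_maximalIdeal_of_dim_one Q hdim Q' hQ'p h2 with h | h
      · rw [hover, h]
      · exact absurd h hQ'm

end Groth.Agent.H78.BranchDim1
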