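import Mathlib
import Groth.Prelude.Def_Hensel
import Groth.Agent.H78.BranchDim1.Main

/-!
# The comparison map from a strict henselization of `A` to a strict henselization of `Â`
-/

set_option autoImplicit false
set_option linter.style.haveILetI false
universe u

namespace Groth.Agent.H78.BranchDim1

open IsLocalRing Groth.Agent.H3 Groth.Agent.H3.UnionEtale Groth.Agent.H78.HensCompl

variable (A : Type u) [CommRing A] [IsLocalRing A] [IsNoetherianRing A]

theorem strict_package
    (Ash : Type u) [CommRing Ash] [IsLocalRing Ash] [Algebra A Ash] [IsLocalHom (algebraMap A Ash)]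
    [hSH : Hensel.IsStrictHenselization A Ash]
    (T : Type u) [CommRing T] [IsLocalRing T] [Algebra (AdicCompletion (maximalIdeal A) A) T]
    [IsLocalHom (algebraMap (AdicCompletion (maximalIdeal A) A) T)]
    [hT : Hensel.IsStrictHenselization (AdicCompletion (maximalIdeal A) A) T] :
    ∃ g : Ash →+* T,
      g.comp (algebraMap A Ash) = (algebraMap (AdicCompletion (maximalIdeal A) A) T).comp
        (algebraMap A (AdicCompletion (maximalIdeal A) A)) ∧
      g.Flat ∧ IsLocalHom g ∧ (maximalIdeal Ash).map g = maximalIdeal T ∧
      (∀ b : T, ∃ d : Ash, b - g d ∈ maximalIdeal T) := by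
  haveI : HenselianLocalRing T := hT.henselian
  haveI : IsLocalHom (algebraMap A (AdicCompletion (maximalIdeal A) A)) := by
    refine ((IsLocalRing.local_hom_TFAE _).out 0 2).mpr ?_
    rw [← AdicCompletion.maximalIdeal_eq_map]
  let f : A →+* T := (algebraMap (AdicCompletion (maximalIdeal A) A) T).comp
    (algebraMap A (AdicCompletion (maximalIdeal A) A))
  haveI hfloc : IsLocalHom f := RingHom.isLocalHom_comp _ _
  -- the residue field map
  letI : Algebra (ResidueField A) (ResidueField T) := (ResidueField.map f).toAlgebra
  haveI : IsSepClosed (ResidueField T) := hT.isSepClosure.sep_closed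
  haveI : IsSepClosed (ResidueField Ash) := hSH.isSepClosure.sep_closed
  haveI : Algebra.IsSeparable (ResidueField A) (ResidueField Ash) := hSH.isSepClosure.separable
  let τ₀ : ResidueField Ash →ₐ[ResidueField A] ResidueField T := IsSepClosed.lift
  let τ : ResidueField Ash →+* ResidueField T := τ₀.toRingHom
  have hτ : τ.comp (ResidueField.map (algebraMap A Ash)) = ResidueField.map f := by
    ext x
    exact τ₀.commutes x
  obtain ⟨g, ⟨hg, hgτ⟩, -⟩ := hSH.universal T f τ hτ
  -- flatness
  obtain ⟨hU, hff⟩ := Groth.Agent.H3.HensUnion.package (Or.inr hSH)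
  obtain ⟨-, hffT⟩ := Groth.Agent.H3.HensUnion.package (Or.inr hT)
  letI : Algebra A T := f.toAlgebra
  haveI : IsScalarTower A (AdicCompletion (maximalIdeal A) A) T :=
    IsScalarTower.of_algebraMap_eq fun x => rfl
  haveI : Module.Flat (AdicCompletion (maximalIdeal A) A) T := hffT.toFlat
  haveI : Module.Flat A T := Module.Flat.trans A (AdicCompletion (maximalIdeal A) A) T
  letI : Algebra Ash T := g.toAlgebra
  haveI : IsScalarTower A Ash T := IsScalarTower.of_algebraMap_eq fun x => by
    change f x = g (algebraMap A Ash x)
    rw [← hg]; rfl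
  haveI : Module.Flat Ash T := hU.flat_of_flat T
  have hmT : (maximalIdeal A).map f = maximalIdeal T := by
    change (maximalIdeal A).map ((algebraMap (AdicCompletion (maximalIdeal A) A) T).comp
      (algebraMap A (AdicCompletion (maximalIdeal A) A))) = _
    rw [← Ideal.map_map, ← AdicCompletion.maximalIdeal_eq_map]
    exact Groth.Agent.S0538.result (AdicCompletion (maximalIdeal A) A) T
  have hmax : (maximalIdeal Ash).map (algebraMap Ash T) = maximalIdeal T := by
    rw [← Groth.Agent.S0538.result A Ash, Ideal.map_map]
    change (maximalIdeal A).map (g.comp (algebraMap A Ash)) = _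
    rw [hg, hmT]
  have hloc : IsLocalHom (algebraMap Ash T) := by
    refine ((IsLocalRing.local_hom_TFAE (algebraMap Ash T)).out 0 2).mpr ?_
    rw [hmax]
  -- surjectivity of the residue field map
  have hτsurj : Function.Surjective τ := by
    -- `κ(A) → κ(Â)` is bijective
    have hbij : Function.Bijective (ResidueField.map
        (algebraMap A (AdicCompletion (maximalIdeal A) A))) := by
      refine ⟨RingHom.injective _, fun y => ?_⟩
      obtain ⟨b, rfl⟩ := IsLocalRing.residue_surjective y
      obtain ⟨a, ha⟩ := exists_sub_mem_maximalIdeal A b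
      refine ⟨IsLocalRing.residue A a, ?_⟩
      rw [ResidueField.map_residue, eq_comm, ← sub_eq_zero, ← map_sub]
      exact (IsLocalRing.residue_eq_zero_iff _).mpr ha
    let e₁ : ResidueField (AdicCompletion (maximalIdeal A) A) ≃+* ResidueField A :=
      (RingEquiv.ofBijective _ hbij).symm
    haveI : Algebra.IsSeparable (ResidueField (AdicCompletion (maximalIdeal A) A))
        (ResidueField T) := hT.isSepClosure.separable
    haveI : Algebra.IsSeparable (ResidueField A) (ResidueField T) := by
      refine Algebra.IsSeparable.of_equiv_equiv e₁ (RingEquiv.refl (ResidueField T)) ?_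
      ext y
      obtain ⟨x, rfl⟩ := e₁.symm.surjective y
      simp only [RingHom.coe_comp, RingHom.coe_coe, Function.comp_apply,
        RingEquiv.apply_symm_apply, RingEquiv.refl_apply]
      change ResidueField.map f x = ResidueField.map (algebraMap _ T)
        (ResidueField.map (algebraMap A (AdicCompletion (maximalIdeal A) A)) x)
      obtain ⟨a, rfl⟩ := IsLocalRing.residue_surjective x
      rfl
    letI : Algebra (ResidueField Ash) (ResidueField T) := τ.toAlgebra
    haveI : IsScalarTower (ResidueField A) (ResidueField Ash) (ResidueField T) :=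
      IsScalarTower.of_algebraMap_eq fun x => (τ₀.commutes x).symm
    haveI : Algebra.IsSeparable (ResidueField Ash) (ResidueField T) :=
      Algebra.isSeparable_tower_top_of_isSeparable (ResidueField A) (ResidueField Ash)
        (ResidueField T)
    exact IsSepClosed.algebraMap_surjective (ResidueField Ash) (ResidueField T)
  have hres : ∀ b : T, ∃ d : Ash, b - algebraMap Ash T d ∈ maximalIdeal T := by
    intro b
    obtain ⟨y, hy⟩ := hτsurj (IsLocalRing.residue T b)
    obtain ⟨d, rfl⟩ := IsLocalRing.residue_surjective y
    refine ⟨d, ?_⟩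
    rw [← IsLocalRing.residue_eq_zero_iff, map_sub, sub_eq_zero, ← hy]
    exact (hgτ d).symm
  exact ⟨g, hg, ‹Module.Flat Ash T›, hloc, hmax, hres⟩

end Groth.Agent.H78.BranchDim1
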