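import Mathlib
import Groth.Prelude.Def_Hensel
import Groth.Agent.H78.BranchDim1.StrictPkg
import Groth.Agent.H78.BranchDim1.CoheightOne

/-!
# S16578: immediate étale generizations of the closed point, for `A` and for `Â`
-/

set_option autoImplicit false
set_option linter.style.haveILetI false
universe u

namespace Groth.Agent.H78.BranchDim1

open IsLocalRing Groth.Agent.H3 Groth.Agent.H3.UnionEtale Groth.Agent.H78.HensCompl

theorem immediate_generization_iff
    (A : Type u) [CommRing A] [IsNoetherianRing A] [IsLocalRing A]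
    (S' : Type u) [CommRing S'] [IsLocalRing S'] [Algebra A S'] [IsLocalHom (algebraMap A S')]
    [hSH : Hensel.IsStrictHenselization A S']
    (T' : Type u) [CommRing T'] [IsLocalRing T']
    [Algebra (AdicCompletion (IsLocalRing.maximalIdeal A) A) T']
    [IsLocalHom (algebraMap (AdicCompletion (IsLocalRing.maximalIdeal A) A) T')]
    [hT : Hensel.IsStrictHenselization (AdicCompletion (IsLocalRing.maximalIdeal A) A) T']
    (p : Ideal A) [p.IsPrime] :
    (∃ P ∈ (p.map (algebraMap A S')).minimalPrimes, ringKrullDim (S' ⧸ P) = 1) ↔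
    (∃ q ∈ (p.map (algebraMap A (AdicCompletion (IsLocalRing.maximalIdeal A) A))).minimalPrimes,
      ∃ Q ∈ (q.map (algebraMap (AdicCompletion (IsLocalRing.maximalIdeal A) A) T')).minimalPrimes,
        ringKrullDim (T' ⧸ Q) = 1) := by
  obtain ⟨g, hg, hflat, hloc, hmax, hres⟩ := strict_package A S' T'
  letI : Algebra S' T' := g.toAlgebra
  haveI : Module.Flat S' T' := hflat
  haveI : IsLocalHom (algebraMap S' T') := hloc
  haveI : HenselianLocalRing S' := hSH.henselian
  haveI : IsNoetherianRing S' := (Groth.Agent.S0540.result A S').mp inferInstance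
  haveI : IsNoetherianRing (AdicCompletion (maximalIdeal A) A) :=
    Groth.Agent.Lead.RLR.isNoetherianRing_adicCompletion' A (maximalIdeal A)
  haveI : IsNoetherianRing T' :=
    (Groth.Agent.S0540.result (AdicCompletion (maximalIdeal A) A) T').mp inferInstance
  obtain ⟨-, hffT⟩ := Groth.Agent.H3.HensUnion.package (Or.inr hT)
  haveI : Module.Flat (AdicCompletion (maximalIdeal A) A) T' := hffT.toFlat
  rw [exists_minimalPrimes_dim_one_iff (H := S') (H' := T') hmax hres (p.map (algebraMap A S'))]
  have hI : (p.map (algebraMap A S')).map (algebraMap S' T') =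
      (p.map (algebraMap A (AdicCompletion (maximalIdeal A) A))).map
        (algebraMap (AdicCompletion (maximalIdeal A) A) T') := by
    rw [Ideal.map_map, Ideal.map_map]
    congr 1
  rw [hI]
  constructor
  · rintro ⟨Q, hQ, hdim⟩
    exact ⟨Q.under (AdicCompletion (maximalIdeal A) A), under_mem_minimalPrimes_of_map _ hQ, Q,
      mem_minimalPrimes_map_under _ hQ, hdim⟩
  · rintro ⟨q, hq, Q, hQ, hdim⟩
    exact ⟨Q, mem_minimalPrimes_map_of_mem_minimalPrimes_map _ hq hQ, hdim⟩

end Groth.Agent.H78.BranchDim1
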