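import Mathlib
import Groth.Prelude.Def_Hensel
import Groth.Agent.H78.BranchDim1.Punctured
import Groth.Agent.H78.BranchDim1.Main
import Groth.Agent.S0511

/-!
# S9279: the punctured spectra of the completion and of the henselization are connected together
-/

set_option autoImplicit false
set_option linter.style.haveILetI false
universe u

namespace Groth.Agent.H78.BranchDim1

open IsLocalRing Groth.Agent.H3 Groth.Agent.H78.HensCompl

variable (A S : Type u) [CommRing A] [IsLocalRing A] [IsNoetherianRing A] [CommRing S]
  [IsLocalRing S] [Algebra A S] [IsLocalHom (algebraMap A S)]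

/-- **S9279.** -/
theorem isPreconnected_punctured_completion_iff [Hensel.IsHenselization A S] :
    IsPreconnected
        ({IsLocalRing.closedPoint (AdicCompletion (IsLocalRing.maximalIdeal A) A)}ᶜ :
          Set (PrimeSpectrum (AdicCompletion (IsLocalRing.maximalIdeal A) A))) ↔
      IsPreconnected ({IsLocalRing.closedPoint S}ᶜ : Set (PrimeSpectrum S)) := by
  have hH : Hensel.IsHenselization A S := inferInstance
  haveI := henselianLocalRing_adicCompletion A
  haveI : IsLocalHom (algebraMap A (AdicCompletion (maximalIdeal A) A)) := by
    refine ((IsLocalRing.local_hom_TFAE _).out 0 2).mpr ?_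
    rw [← AdicCompletion.maximalIdeal_eq_map]
  obtain ⟨ψ, hψ, -⟩ := hH.universal (AdicCompletion (maximalIdeal A) A)
    (algebraMap A (AdicCompletion (maximalIdeal A) A)) inferInstance
  obtain ⟨hflat, hloc⟩ := flat_and_isLocalHom A S ψ hψ
  letI : Algebra S (AdicCompletion (maximalIdeal A) A) := ψ.toAlgebra
  haveI : Module.Flat S (AdicCompletion (maximalIdeal A) A) := hflat
  haveI : IsLocalHom (algebraMap S (AdicCompletion (maximalIdeal A) A)) := hloc
  haveI : HenselianLocalRing S := hH.henselian
  haveI : IsNoetherianRing S := (Groth.Agent.S0511.result A S).mp inferInstance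
  haveI : IsNoetherianRing (AdicCompletion (maximalIdeal A) A) :=
    Groth.Agent.Lead.RLR.isNoetherianRing_adicCompletion' A (maximalIdeal A)
  have hPS := Groth.Agent.H3.HensIso.isPairHenselization_of_isHenselization hH
  have hmS : maximalIdeal S = (maximalIdeal A).map (algebraMap A S) :=
    Groth.Agent.H3.HensLocal.maximalIdeal_eq hPS
  have hmax : (maximalIdeal S).map (algebraMap S (AdicCompletion (maximalIdeal A) A)) =
      maximalIdeal (AdicCompletion (maximalIdeal A) A) := by
    change (maximalIdeal S).map ψ = _
    rw [hmS, Ideal.map_map, hψ, ← AdicCompletion.maximalIdeal_eq_map]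
  have hres : ∀ b : AdicCompletion (maximalIdeal A) A, ∃ d : S,
      b - algebraMap S (AdicCompletion (maximalIdeal A) A) d ∈
        maximalIdeal (AdicCompletion (maximalIdeal A) A) := by
    intro b
    obtain ⟨a, ha⟩ := exists_sub_mem_maximalIdeal A b
    refine ⟨algebraMap A S a, ?_⟩
    change b - ψ (algebraMap A S a) ∈ _
    have : ψ (algebraMap A S a) = algebraMap A (AdicCompletion (maximalIdeal A) A) a := by
      rw [← hψ]; rfl
    rw [this]
    exact ha
  exact ⟨isPreconnected_punctured_down (H := S) (H' := AdicCompletion (maximalIdeal A) A) hmax,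
    isPreconnected_punctured_up (H := S) (H' := AdicCompletion (maximalIdeal A) A) hmax hres⟩

end Groth.Agent.H78.BranchDim1
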